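import Mathlib

/-!
# The equations force the degrees one
-/

set_option autoImplicit false
set_option linter.all false

namespace CfsgLib.Recog.ThreeCubeFour

/-- The equations attached to a class of involutions meeting the involutions of the local subgroup
in the types with `m k = 1`; `p` are values at the class, `x` are signed degrees. -/
def Eqs (x p m : Fin 3 → ℂ) (κ : ℂ) : Prop :=
  ∀ k : Fin 3,
    (p k - x k) ^ 2 = 162 * κ * (m (k + 1) + m (k + 2)) ^ 2 * (x k * (1 + x k)) ∧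
    (p (k + 1) * x (k + 2) - p (k + 2) * x (k + 1)) ^ 2 =
      162 * κ * (m (k + 1) - m (k + 2)) ^ 2 * (x (k + 1) * x (k + 2) * (x (k + 1) + x (k + 2))) ∧
    ((1 + p k) * (x (k + 1) + x (k + 2)) - (p (k + 1) + p (k + 2)) * (1 + x k)) ^ 2 =
      324 * κ * (m k) ^ 2 * ((1 + x k) * (x (k + 1) + x (k + 2)) * (1 + x k + x (k + 1) + x (k + 2)))

theorem single {x y z p q r κ : ℂ} (hκ : κ ≠ 0) (hx : x ≠ 0) (hy : y ≠ 0) (hx1 : 1 + x ≠ 0)
    (hyz : y + z ≠ 0) (hD : 1 + x + y + z ≠ 0) (hp : p = x) (hqr : q * z = r * y)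
    (hb : (1 + q) * (z + x) = (r + p) * (1 + y)) (hc : (1 + r) * (x + y) = (p + q) * (1 + z))
    (he : ((1 + p) * (y + z) - (q + r) * (1 + x)) ^ 2 =
      324 * κ * ((1 + x) * (y + z) * (1 + x + y + z))) : x = 1 ∧ y = z := by
  subst hp
  have h1 : z - r = p * (y - q) := by linear_combination hb - hqr
  have h2 : y - q = p * (z - r) := by linear_combination hc + hqr
  by_cases hz : z - r = 0
  · exfalso
    have hq : y - q = 0 := by rw [h2, hz, mul_zero]
    rw [show q = y by linear_combination -hq, show r = z by linear_combination -hz] at he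
    have h0 : 324 * κ * ((1 + p) * (y + z) * (1 + p + y + z)) = 0 := by linear_combination -he
    simp [hκ, hx1, hyz, hD] at h0
  have hsq : p * p = 1 := by
    refine mul_right_cancel₀ hz ?_
    linear_combination (-1 : ℂ) * h1 - p * h2
  have hp1 : p = 1 := (mul_self_eq_one_iff.1 hsq).resolve_right fun e => hx1 (by rw [e]; ring)
  subst hp1
  refine ⟨rfl, ?_⟩
  have h3 : (y - z) * (z - r) = 0 := by linear_combination hqr + z * h2
  exact sub_eq_zero.1 ((mul_eq_zero.1 h3).resolve_right hz)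

theorem fused {x y z p q r κ : ℂ} (hκ : κ ≠ 0) (hx : x ≠ 0) (hy : y ≠ 0) (hz : z ≠ 0)
    (hx1 : 1 + x ≠ 0) (hy1 : 1 + y ≠ 0) (hz1 : 1 + z ≠ 0) (hxy : q * x = p * y) (hxz : r * x = p * z)
    (a : (p - x) ^ 2 = 648 * κ * (x * (1 + x))) (b : (q - y) ^ 2 = 648 * κ * (y * (1 + y)))
    (c : (r - z) ^ 2 = 648 * κ * (z * (1 + z)))
    (e : ((1 + p) * (y + z) - (q + r) * (1 + x)) ^ 2 =
      324 * κ * ((1 + x) * (y + z) * (1 + x + y + z))) : x = 1 ∧ y = 1 ∧ z = 1 := by
  have key : ∀ w s : ℂ, w ≠ 0 → s * x = p * w → (s - w) ^ 2 = 648 * κ * (w * (1 + w)) → w = x := by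
    intro w s hw h1 h2
    have h3 : (s - w) ^ 2 * x ^ 2 = w ^ 2 * (p - x) ^ 2 := by
      rw [← mul_pow, ← mul_pow]; congr 1; linear_combination h1
    rw [h2, a] at h3
    have h4 : (648 * κ * (w * x)) * (x - w) = 0 := by linear_combination h3
    simp [hκ, hw, hx] at h4
    linear_combination -h4
  obtain rfl := key y q hy hxy b
  obtain rfl := key z r hz hxz c
  have hq : q = p := mul_right_cancel₀ hx hxy
  have hr : r = p := mul_right_cancel₀ hx hxz
  subst hq hr
  have h5 : (648 * κ * (z * (1 + z))) * (3 * (1 - z)) = 0 := by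
    linear_combination -4 * a + e
  simp [hκ, hx, hx1] at h5
  have : z = 1 := by linear_combination -h5
  exact ⟨this, this, this⟩

theorem double {x p q r κ : ℂ} (hκ : κ ≠ 0) (hx : x ≠ 0) (hx1 : 1 + x ≠ 0)
    (hpq : q * x = p * x) (hc : (1 + r) * (x + x) = (p + q) * (1 + 1))
    (a : (p - x) ^ 2 = 162 * κ * (x * (1 + x))) (c : (r - 1) ^ 2 = 648 * κ * (1 * (1 + 1))) :
    x = 1 := by
  obtain rfl := mul_right_cancel₀ hx hpq
  have h : (648 * κ * x) * (x - 1) = 0 := by
    have hp : q = (1 + r) * x / 2 := by linear_combination (-1 / 4 : ℂ) * hc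
    rw [hp] at a
    linear_combination 4 * a - x ^ 2 * c
  simp [hκ, hx] at h
  linear_combination h

theorem idx : ∀ k : Fin 3, k + 1 + 1 = k + 2 ∧ k + 1 + 2 = k ∧ k + 2 + 1 = k ∧ k + 2 + 2 = k + 1 ∧
    ∀ n, n = k ∨ n = k + 1 ∨ n = k + 2 := by decide

/-- All three degrees are one. -/
theorem degrees_one (x : Fin 3 → ℂ) (hx : ∀ k, x k ≠ 0) (hx1 : ∀ k, 1 + x k ≠ 0)
    (hxx : ∀ k : Fin 3, x (k + 1) + x (k + 2) ≠ 0) (hD : 1 + x 0 + x 1 + x 2 ≠ 0)
    (R : Fin 3 → Fin 3 → Prop) [DecidableRel R] (hrefl : ∀ k, R k k) (hsymm : ∀ k l, R k l → R l k)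
    (htrans : ∀ k l n, R k l → R l n → R k n)
    (h : ∀ j, ∃ p κ, κ ≠ 0 ∧ Eqs x p (fun k => if R j k then 1 else 0) κ) : ∀ k, x k = 1 := by
  have hsing : ∀ k, ¬ R k (k + 1) → ¬ R k (k + 2) → x k = 1 ∧ x (k + 1) = x (k + 2) := by
    intro k h1 h2
    obtain ⟨p, κ, hκ, he⟩ := h k
    obtain ⟨a, b, e⟩ := he k
    obtain ⟨i1, i2, i3, i4, hall'⟩ := idx k
    obtain ⟨-, -, eb⟩ := he (k + 1)
    obtain ⟨-, -, ec⟩ := he (k + 2)
    rw [i1, i2] at eb
    rw [i3, i4] at ec
    simp only [if_neg h1, if_neg h2, if_pos (hrefl k)] at a b e eb ec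
    norm_num at a b eb ec
    refine single hκ (hx k) (hx _) (hx1 k) (hxx k) ?_ (sub_eq_zero.1 a) (sub_eq_zero.1 b)
      (sub_eq_zero.1 eb) (sub_eq_zero.1 ec) (by linear_combination e)
    intro e0
    have hall : ∀ k : Fin 3, x k + x (k + 1) + x (k + 2) = x 0 + x 1 + x 2 := by
      intro k; fin_cases k <;> simp only [Fin.reduceFinMk, Fin.reduceAdd, Fin.isValue, zero_add] <;> ring
    exact hD (by linear_combination e0 - hall k)
  have hone : ∀ k, ¬ R k (k + 1) → ¬ R k (k + 2) → ∀ n, x n = 1 := by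
    intro k h1 h2
    obtain ⟨hk, heq⟩ := hsing k h1 h2
    obtain ⟨i1, i2, i3, i4, hall'⟩ := idx k
    have hall := hall'
    have hx1' : x (k + 1) = 1 := by
      by_cases h3 : R (k + 1) (k + 2)
      · obtain ⟨p, κ, hκ, he⟩ := h (k + 1)
        obtain ⟨a, b, e⟩ := he k
        obtain ⟨a', -, -⟩ := he (k + 1)
        rw [i1, i2] at a'
        simp only [if_pos (hrefl _), if_pos h3, if_neg (fun hh => h1 (hsymm _ _ hh))] at a b e a'
        rw [hk, ← heq] at *
        norm_num at b e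
        refine double (p := p (k + 1)) (q := p (k + 2)) (r := p k) hκ (hx _) (hx1 _) ?_ ?_
          (by linear_combination a') (by linear_combination a)
        · linear_combination -b
        · linear_combination e
      · refine (hsing (k + 1) ?_ ?_).1
        · rw [i1]; exact h3
        · rw [i2]; exact fun hh => h1 (hsymm _ _ hh)
    intro n
    rcases hall n with rfl | rfl | rfl
    exacts [hk, hx1', heq ▸ hx1']
  by_cases hS : ∃ k, ¬ R k (k + 1) ∧ ¬ R k (k + 2)
  · obtain ⟨k, h1, h2⟩ := hS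
    exact hone k h1 h2
  push Not at hS
  have h01 : R 0 1 ∧ R 0 2 := by
    have a0 := hS 0
    have a1 := hS 1
    have a2 := hS 2
    simp only [Fin.reduceAdd, Fin.isValue, zero_add] at a0 a1 a2
    by_cases h : R 0 1
    · refine ⟨h, ?_⟩
      by_contra h2
      have : R 2 1 := a2 fun hh => h2 (hsymm _ _ hh)
      exact h2 (htrans _ _ _ h (hsymm _ _ this))
    · exfalso
      exact h (htrans _ _ _ (a0 h) (hsymm _ _ (a1 (by
        intro h12
        exact h (htrans _ _ _ (a0 h) (hsymm _ _ h12))) |> fun h10 => absurd (hsymm _ _ h10) h)))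
  obtain ⟨p, κ, hκ, he⟩ := h 0
  have m : ∀ k : Fin 3, R 0 k := by intro k; fin_cases k; exacts [hrefl 0, h01.1, h01.2]
  obtain ⟨a0, b0, e0⟩ := he 0
  obtain ⟨a1, b1, -⟩ := he 1
  obtain ⟨a2, b2, -⟩ := he 2
  simp only [if_pos (m _), Fin.reduceAdd, Fin.isValue, zero_add] at a0 a1 a2 b0 b1 b2 e0
  norm_num at b0 b1 b2
  obtain ⟨r0, r1, r2⟩ := fused hκ (hx 0) (hx 1) (hx 2) (hx1 0) (hx1 1) (hx1 2)
    (p := p 0) (q := p 1) (r := p 2) (by linear_combination -(sub_eq_zero.1 b2))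
    (by linear_combination sub_eq_zero.1 b1) (by linear_combination a0) (by linear_combination a1)
    (by linear_combination a2) (by linear_combination e0)
  intro k
  fin_cases k
  exacts [r0, r1, r2]

end CfsgLib.Recog.ThreeCubeFour
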