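import Cfsg.Agent.Lib.Recog.ThreeCubeFour.Supports

/-!
# The pattern of the nine supports
-/

set_option autoImplicit false
set_option linter.all false
set_option maxHeartbeats 1000000

open Finset

namespace CfsgLib.Recog.ThreeCubeFour

variable {ι : Type*} [Fintype ι] [DecidableEq ι]

/-- Nine vectors with the inner products coming from the local subgroup. -/
structure Hyp (o : ι) (d : ι → ℤ) (T P E : Fin 3 → ι → ℤ) : Prop where
  dpos : ∀ i, 0 < d i
  done : d o = 1
  To : ∀ k, T k o = 1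
  Po : ∀ k, P k o = 0
  Eo : ∀ k, E k o = 0
  dT : ∀ k, ∑ i, T k i * d i = 0
  dP : ∀ k, ∑ i, P k i * d i = 0
  dE : ∀ k, ∑ i, E k i * d i = 0
  TT : ∀ k l, ∑ i, T k i * T l i = if k = l then 3 else 1
  PP : ∀ k l, ∑ i, P k i * P l i = if k = l then 3 else 1
  EE : ∀ k l, ∑ i, E k i * E l i = if k = l then 3 else 1
  TP : ∀ k l, ∑ i, T k i * P l i = if k = l then 0 else 1
  TE : ∀ k l, ∑ i, T k i * E l i = if k = l then -1 else 0
  PE : ∀ k l, ∑ i, P k i * E l i = if k = l then -1 else 0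

variable {o : ι} {d : ι → ℤ} {T P E : Fin 3 → ι → ℤ}

theorem Hyp.normT (h : Hyp o d T P E) (k : Fin 3) : ∑ i, T k i * T k i = 3 := by simpa using h.TT k k
theorem Hyp.normP (h : Hyp o d T P E) (k : Fin 3) : ∑ i, P k i * P k i = 3 := by simpa using h.PP k k
theorem Hyp.normE (h : Hyp o d T P E) (k : Fin 3) : ∑ i, E k i * E k i = 3 := by simpa using h.EE k k

/-- The pair of `T k`. -/
theorem Hyp.pair (h : Hyp o d T P E) (k : Fin 3) :
    ∃ i j, o ≠ i ∧ o ≠ j ∧ i ≠ j ∧ (T k i = 1 ∨ T k i = -1) ∧ (T k j = 1 ∨ T k j = -1) ∧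
      ∀ x, x ≠ o → x ≠ i → x ≠ j → T k x = 0 :=
  norm_three_through (T k) o (h.normT k) (h.To k)

theorem Hyp.deg_pair (h : Hyp o d T P E) (k : Fin 3) {i j : ι} (hi : i ≠ o) (hj : j ≠ o) (hij : i ≠ j)
    (hTi : T k i ≠ 0) (hTj : T k j ≠ 0) :
    (∀ x, x ≠ o → x ≠ i → x ≠ j → T k x = 0) ∧ 1 + T k i * d i + T k j * d j = 0 := by
  obtain ⟨p, q, hp, hq, hpq, hTp, hTq, hz⟩ := h.pair k
  have hi' : i = p ∨ i = q := by by_contra hne; push Not at hne; exact hTi (hz i hi hne.1 hne.2)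
  have hj' : j = p ∨ j = q := by by_contra hne; push Not at hne; exact hTj (hz j hj hne.1 hne.2)
  have hsupp : ∀ x, x ≠ o → x ≠ i → x ≠ j → T k x = 0 := fun x h1 h2 h3 => by
    rcases hi' with rfl | rfl <;> rcases hj' with rfl | rfl
    · exact absurd rfl hij
    · exact hz x h1 h2 h3
    · exact hz x h1 h3 h2
    · exact absurd rfl hij
  refine ⟨hsupp, ?_⟩
  have := h.dT k
  rw [sum_of_support (T k) (Ne.symm hi) (Ne.symm hj) hij hsupp, h.To, h.done] at this
  linarith

/-- Different pairs are disjoint. -/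
theorem Hyp.disj (h : Hyp o d T P E) {k l : Fin 3} (hkl : k ≠ l) {x : ι} (hx : x ≠ o)
    (hk : T k x ≠ 0) : T l x = 0 := by
  by_contra hl
  obtain ⟨p, q, hp, hq, hpq, hTp, hTq, hz⟩ := h.pair k
  have hsum := h.TT k l
  rw [if_neg hkl, sum_of_support (T k) hp hq hpq hz, h.To, h.To] at hsum
  have hTp0 : T k p ≠ 0 := by omega
  have hTq0 : T k q ≠ 0 := by omega
  obtain ⟨hlp, hlq⟩ : T l p ≠ 0 ∧ T l q ≠ 0 := by
    have hx' : x = p ∨ x = q := by by_contra hne; push Not at hne; exact hk (hz x hx hne.1 hne.2)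
    constructor <;> intro e <;> rcases hx' with rfl | rfl <;> simp_all
  obtain ⟨-, hdl⟩ := h.deg_pair l (Ne.symm hp) (Ne.symm hq) hpq hlp hlq
  obtain ⟨-, hdk⟩ := h.deg_pair k (Ne.symm hp) (Ne.symm hq) hpq hTp0 hTq0
  have := h.dpos p
  have := h.dpos q
  rcases val_cases _ (h.normT l) p with e1 | e1 | e1 <;>
    rcases val_cases _ (h.normT l) q with e2 | e2 | e2 <;>
    rcases hTp with e3 | e3 <;> rcases hTq with e4 | e4 <;>
    simp only [e1, e2, e3, e4] at * <;> omega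

/-- A vector of norm three with inner product `±1` against `T k` meets its pair once. -/
theorem Hyp.one (h : Hyp o d T P E) (k : Fin 3) (v : ι → ℤ) (hv : ∑ i, v i * v i = 3) (ho : v o = 0)
    {σ : ℤ} (hσ : σ = 1 ∨ σ = -1) (hd : ∑ i, T k i * v i = σ) :
    ∃ s, s ≠ o ∧ T k s ≠ 0 ∧ v s = σ * T k s ∧ ∀ x, x ≠ o → T k x ≠ 0 → x ≠ s → v x = 0 := by
  obtain ⟨p, q, hp, hq, hpq, hTp, hTq, hz⟩ := h.pair k
  rw [sum_of_support (T k) hp hq hpq hz, ho, mul_zero, zero_add] at hd
  have hmem : ∀ x, x ≠ o → T k x ≠ 0 → x = p ∨ x = q := fun x h1 h2 => by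
    by_contra hne; push Not at hne; exact h2 (hz x h1 hne.1 hne.2)
  rcases eq_or_ne (v p) 0 with e | e
  · refine ⟨q, Ne.symm hq, by omega, ?_, fun x h1 h2 h3 => ?_⟩
    · rw [e] at hd
      rcases hTq with f | f <;> rw [f] at hd ⊢ <;> linarith
    · rcases hmem x h1 h2 with rfl | rfl
      · exact e
      · exact absurd rfl h3
  · have hq0 : v q = 0 := by
      rcases val_cases v hv p with e1 | e1 | e1 <;> rcases val_cases v hv q with e2 | e2 | e2 <;>
        rcases hTp with e3 | e3 <;> rcases hTq with e4 | e4 <;> rcases hσ with e5 | e5 <;>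
        simp only [e1, e2, e3, e4, e5] at * <;> omega
    refine ⟨p, Ne.symm hp, by omega, ?_, fun x h1 h2 h3 => ?_⟩
    · rw [hq0] at hd
      rcases hTp with f | f <;> rw [f] at hd ⊢ <;> linarith
    · rcases hmem x h1 h2 with rfl | rfl
      · exact absurd rfl h3
      · exact hq0

/-- A vector of norm three orthogonal to `T k` meets its pair twice or not at all. -/
theorem Hyp.both (h : Hyp o d T P E) (k : Fin 3) (v : ι → ℤ) (ho : v o = 0)
    (hd : ∑ i, T k i * v i = 0) {i j : ι} (hi : i ≠ o) (hj : j ≠ o) (hij : i ≠ j) (hTi : T k i ≠ 0)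
    (hTj : T k j ≠ 0) (hvi : v i ≠ 0) : v j ≠ 0 := by
  obtain ⟨hz, -⟩ := h.deg_pair k hi hj hij hTi hTj
  rw [sum_of_support (T k) (Ne.symm hi) (Ne.symm hj) hij hz, ho, mul_zero, zero_add] at hd
  intro e
  rw [e, mul_zero, add_zero] at hd
  exact mul_ne_zero hTi hvi hd

theorem parity {c d a b : ℤ} (hc : c = 0 ∨ c = 1 ∨ c = -1) (hd : d = 0 ∨ d = 1 ∨ d = -1)
    (ha : a = 0 ∨ a = 1 ∨ a = -1) (hb : b = 0 ∨ b = 1 ∨ b = -1) (hc0 : c ≠ 0) (hd0 : d ≠ 0)
    (hab : a = 0 ↔ b = 0) (h : c * a + d * b = 1) : False := by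
  rcases hc with rfl | rfl | rfl <;> rcases hd with rfl | rfl | rfl <;>
    rcases ha with rfl | rfl | rfl <;> rcases hb with rfl | rfl | rfl <;> omega

theorem third (k l : Fin 3) (hkl : k ≠ l) : ∃ m, m ≠ k ∧ m ≠ l ∧ ∀ n, n = k ∨ n = l ∨ n = m := by
  revert k l; decide

theorem others (k : Fin 3) : ∃ l m : Fin 3, l ≠ k ∧ m ≠ k ∧ l ≠ m ∧ ∀ n, n = k ∨ n = l ∨ n = m := by
  revert k; decide

/-- The signed pattern of the supports. -/
theorem Hyp.pattern (h : Hyp o d T P E) :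
    ∃ (L F W : Fin 3 → ι) (U : ι) (a b c : Fin 3 → ℤ) (e : ℤ),
      Function.Injective L ∧ (∀ k, L k ≠ o) ∧ (∀ k, a k = 1 ∨ a k = -1) ∧
      (∀ k, b k = 1 ∨ b k = -1) ∧ (∀ k, c k = 1 ∨ c k = -1) ∧ (e = 1 ∨ e = -1) ∧
      (∀ k, ∀ f : ι → ℂ, ∑ i, (T k i : ℂ) * f i = f o + a k * f (L k) - b k * f (F k)) ∧
      (∀ k, ∀ f : ι → ℂ, ∑ i, (P k i : ℂ) * f i =
        a (k + 1) * f (L (k + 1)) + a (k + 2) * f (L (k + 2)) - c k * f (W k)) ∧
      (∀ k, ∀ f : ι → ℂ, ∑ i, (E k i : ℂ) * f i = b k * f (F k) + c k * f (W k) - e * f U) := by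
  have hS : ∀ k l : Fin 3, k ≠ l → ∃ s, s ≠ o ∧ T l s ≠ 0 ∧ P k s = T l s ∧
      ∀ x, x ≠ o → T l x ≠ 0 → x ≠ s → P k x = 0 := fun k l hkl => by
    obtain ⟨s, h1, h2, h3, h4⟩ := h.one l (P k) (h.normP k) (h.Po k) (σ := 1) (Or.inl rfl)
      (by rw [h.TP l k, if_neg (Ne.symm hkl)])
    exact ⟨s, h1, h2, by rw [h3, one_mul], h4⟩
  haveI : Nonempty ι := ⟨o⟩
  choose! s hso hsT hsP hsZ using hS
  have hsne : ∀ k l k' l', k ≠ l → k' ≠ l' → l ≠ l' → s k l ≠ s k' l' := fun k l k' l' h1 h2 h3 e =>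
    hsT k' l' h2 (by rw [← e]; exact h.disj h3 (hso k l h1) (hsT k l h1))
  have hsnz : ∀ k l, k ≠ l → P k (s k l) ≠ 0 := fun k l hkl => by rw [hsP k l hkl]; exact hsT k l hkl
  have hPdiag : ∀ k x, x ≠ o → T k x ≠ 0 → P k x = 0 := by
    intro k x hx hTx
    by_contra hP
    obtain ⟨l, m, hl, hm, hlm, -⟩ := others k
    obtain ⟨p, q, hp, hq, hpq, hTp, hTq, hz⟩ := h.pair k
    obtain ⟨y, hy, hTy, hxy⟩ : ∃ y, y ≠ o ∧ T k y ≠ 0 ∧ x ≠ y := by
      rcases eq_or_ne x p with rfl | e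
      · exact ⟨q, Ne.symm hq, by omega, hpq⟩
      · exact ⟨p, Ne.symm hp, by omega, e⟩
    have hPy := h.both k (P k) (h.Po k) (by rw [h.TP k k, if_pos rfl]) hx hy hxy hTx hTy hP
    have n1 : ∀ z n, T k z ≠ 0 → z ≠ o → n ≠ k → z ≠ s k n := fun z n hz hzo hn e =>
      hsT k n (Ne.symm hn) (by rw [← e]; exact h.disj (Ne.symm hn) hzo hz)
    rcases four_support (P k) (h.normP k) hxy (n1 x l hTx hx hl) (n1 x m hTx hx hm)
      (n1 y l hTy hy hl) (n1 y m hTy hy hm) (hsne k l k m (Ne.symm hl) (Ne.symm hm) hlm)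
      with e | e | e | e
    · exact hP e
    · exact hPy e
    · exact hsnz k l (Ne.symm hl) e
    · exact hsnz k m (Ne.symm hm) e
  -- the third element of `P k`
  have hW : ∀ k, ∃ w, w ≠ o ∧ (∀ n, T n w = 0) ∧ (P k w = 1 ∨ P k w = -1) ∧
      ∀ l m, l ≠ k → m ≠ k → l ≠ m → ∀ x, x ≠ s k l → x ≠ s k m → x ≠ w → P k x = 0 := by
    intro k
    obtain ⟨l, m, hl, hm, hlm, hall⟩ := others k
    obtain ⟨w, hw0, hwl, hwm⟩ : ∃ w, P k w ≠ 0 ∧ w ≠ s k l ∧ w ≠ s k m := by
      by_contra hne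
      push Not at hne
      have := h.normP k
      rw [← sum_subset (subset_univ ({s k l, s k m} : Finset ι)) fun x _ hx => ?_,
        sum_pair (hsne k l k m (Ne.symm hl) (Ne.symm hm) hlm)] at this
      · rcases val_cases _ (h.normP k) (s k l) with e1 | e1 | e1 <;>
          rcases val_cases _ (h.normP k) (s k m) with e2 | e2 | e2 <;> rw [e1, e2] at this <;> omega
      · simp only [mem_insert, mem_singleton, not_or] at hx
        by_contra hne'
        exact hx.2 (hne x (left_ne_zero_of_mul hne') hx.1)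
    have hwo : w ≠ o := fun e => hw0 (e ▸ h.Po k)
    refine ⟨w, hwo, fun n => ?_, (val_cases _ (h.normP k) w).resolve_left hw0, fun l' m' hl' hm' hlm' => ?_⟩
    · by_contra hn
      rcases hall n with rfl | rfl | rfl
      · exact hw0 (hPdiag n w hwo hn)
      · exact hw0 (hsZ k n (Ne.symm hl) w hwo hn hwl)
      · exact hw0 (hsZ k n (Ne.symm hm) w hwo hn hwm)
    · intro x h1 h2 h3
      by_contra hx
      have hcase : (l' = l ∧ m' = m) ∨ (l' = m ∧ m' = l) := by
        rcases hall l' with e | e | e <;> rcases hall m' with e' | e' | e' <;> subst e <;> subst e' <;>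
          simp_all
      rcases four_support (P k) (h.normP k) (hsne k l k m (Ne.symm hl) (Ne.symm hm) hlm) (Ne.symm hwl)
        (show s k l ≠ x by rcases hcase with ⟨rfl, rfl⟩ | ⟨rfl, rfl⟩ <;> first | exact Ne.symm h1 | exact Ne.symm h2)
        (Ne.symm hwm)
        (show s k m ≠ x by rcases hcase with ⟨rfl, rfl⟩ | ⟨rfl, rfl⟩ <;> first | exact Ne.symm h1 | exact Ne.symm h2)
        (Ne.symm h3) with e | e | e | e
      · exact hsnz k l (Ne.symm hl) e
      · exact hsnz k m (Ne.symm hm) e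
      · exact hw0 e
      · exact hx e
  choose W hWo hWT hWv hWz using hW
  have hsW : ∀ k l n, k ≠ l → s k l ≠ W n := fun k l n hkl e => hsT k l hkl (e ▸ hWT n l)
  have hPsum : ∀ k l m, l ≠ k → m ≠ k → l ≠ m → ∀ v : ι → ℤ, ∑ i, P k i * v i =
      T l (s k l) * v (s k l) + T m (s k m) * v (s k m) + P k (W k) * v (W k) := by
    intro k l m hl hm hlm v
    rw [sum_of_support (P k) (hsne k l k m (Ne.symm hl) (Ne.symm hm) hlm) (hsW k l k (Ne.symm hl))
      (hsW k m k (Ne.symm hm)) (hWz k l m hl hm hlm) v, hsP k l (Ne.symm hl), hsP k m (Ne.symm hm)]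
  -- the element of `E k` in its own pair
  have hF : ∀ k, ∃ f, f ≠ o ∧ T k f ≠ 0 ∧ E k f = -T k f ∧
      ∀ x, x ≠ o → T k x ≠ 0 → x ≠ f → E k x = 0 := fun k => by
    obtain ⟨f, h1, h2, h3, h4⟩ := h.one k (E k) (h.normE k) (h.Eo k) (σ := -1) (Or.inr rfl)
      (by rw [h.TE k k, if_pos rfl])
    exact ⟨f, h1, h2, by rw [h3]; ring, h4⟩
  choose F hFo hFT hFE hFz using hF
  have hFn : ∀ k, E k (F k) ≠ 0 := fun k => by rw [hFE k]; exact neg_ne_zero.2 (hFT k)
  -- meeting another pair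
  let Both : Fin 3 → Fin 3 → Prop := fun k l => ∃ x, x ≠ o ∧ T l x ≠ 0 ∧ E k x ≠ 0
  have hBothSupp : ∀ k l, k ≠ l → Both k l → ∀ x, x ≠ F k → (x = o ∨ T l x = 0) → E k x = 0 := by
    rintro k l hkl ⟨i, hi, hTi, hEi⟩ x hx hxl
    obtain ⟨p, q, hp, hq, hpq, hTp, hTq, hz⟩ := h.pair l
    obtain ⟨j, hj, hTj, hij⟩ : ∃ j, j ≠ o ∧ T l j ≠ 0 ∧ i ≠ j := by
      rcases eq_or_ne i p with rfl | e
      · exact ⟨q, Ne.symm hq, by omega, hpq⟩
      · exact ⟨p, Ne.symm hp, by omega, e⟩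
    have hEj := h.both l (E k) (h.Eo k) (by rw [h.TE l k, if_neg (Ne.symm hkl)]) hi hj hij hTi hTj hEi
    by_contra hne
    rcases hxl with rfl | hxl
    · exact hne (h.Eo k)
    have hFl : ∀ y, T l y ≠ 0 → F k ≠ y := fun y hy e =>
      hy (e ▸ h.disj hkl (hFo k) (hFT k))
    rcases four_support (E k) (h.normE k) (hFl i hTi) (hFl j hTj) (Ne.symm hx) hij
      (fun e => hTi (e ▸ hxl)) (fun e => hTj (e ▸ hxl)) with e | e | e | e
    · exact hFn k e
    · exact hEi e
    · exact hEj e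
    · exact hne e
  have hdec : ∀ k l, k ≠ l → Both k l → ∃ g, g ≠ o ∧ T l g ≠ 0 ∧ g ≠ F l ∧
      ∀ v : ι → ℤ, ∑ i, E k i * v i = E k (F k) * v (F k) + E k (F l) * v (F l) + E k g * v g := by
    intro k l hkl hb
    obtain ⟨p, q, hp, hq, hpq, hTp, hTq, hz⟩ := h.pair l
    obtain ⟨g, hg, hTg, hgF⟩ : ∃ g, g ≠ o ∧ T l g ≠ 0 ∧ g ≠ F l := by
      rcases eq_or_ne p (F l) with e | e
      · exact ⟨q, Ne.symm hq, by omega, fun e' => hpq (e.trans e'.symm)⟩
      · exact ⟨p, Ne.symm hp, by omega, e⟩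
    obtain ⟨hz', -⟩ := h.deg_pair l (hFo l) hg (Ne.symm hgF) (hFT l) hTg
    refine ⟨g, hg, hTg, hgF, fun v => sum_of_support (E k) (fun e => hFT l (by rw [← e]; exact h.disj hkl (hFo k) (hFT k)))
      (fun e => hTg (by rw [← e]; exact h.disj hkl (hFo k) (hFT k))) (Ne.symm hgF) (fun x h1 h2 h3 => ?_) v⟩
    refine hBothSupp k l hkl hb x h1 ?_
    by_cases hxo : x = o
    · exact Or.inl hxo
    · exact Or.inr (hz' x hxo h2 h3)
  have step : ∀ k l m, k ≠ l → m ≠ k → m ≠ l → Both k l → Both m k := by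
    intro k l m hkl hmk hml hb
    by_contra hnot
    obtain ⟨g, hg, hTg, hgF, hsum⟩ := hdec k l hkl hb
    have h1 := h.EE k m
    rw [if_neg (Ne.symm hmk), hsum] at h1
    have e0 : E m (F k) = 0 := by
      by_contra e; exact hnot ⟨F k, hFo k, hFT k, e⟩
    have hboth := h.both l (E m) (h.Eo m) (by rw [h.TE l m, if_neg (Ne.symm hml)]) (hFo l) hg
      (Ne.symm hgF) (hFT l) hTg
    have hboth' := h.both l (E m) (h.Eo m) (by rw [h.TE l m, if_neg (Ne.symm hml)]) hg (hFo l)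
      hgF hTg (hFT l)
    rw [e0, mul_zero, zero_add] at h1
    have hk1 : E k (F l) ≠ 0 ∧ E k g ≠ 0 := by
      have ho := h.both l (E k) (h.Eo k) (by rw [h.TE l k, if_neg (Ne.symm hkl)]) (hFo l) hg
        (Ne.symm hgF) (hFT l) hTg
      have ho' := h.both l (E k) (h.Eo k) (by rw [h.TE l k, if_neg (Ne.symm hkl)]) hg (hFo l)
        hgF hTg (hFT l)
      by_contra hne
      obtain ⟨x, hx, hTx, hEx⟩ := hb
      obtain ⟨hz', -⟩ := h.deg_pair l (hFo l) hg (Ne.symm hgF) (hFT l) hTg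
      rcases eq_or_ne x (F l) with rfl | e
      · exact hne ⟨hEx, ho hEx⟩
      · rcases eq_or_ne x g with rfl | e'
        · exact hne ⟨ho' hEx, hEx⟩
        · exact hTx (hz' x hx e e')
    exact parity (val_cases _ (h.normE k) (F l)) (val_cases _ (h.normE k) g)
      (val_cases _ (h.normE m) (F l)) (val_cases _ (h.normE m) g) hk1.1 hk1.2
      ⟨fun e => by_contra fun e' => hboth' e' e, fun e => by_contra fun e' => hboth e' e⟩ h1
  have hnoBoth : ∀ k l, k ≠ l → ¬ Both k l := by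
    intro k l hkl hb
    obtain ⟨m, hmk, hml, -⟩ := third k l hkl
    have hb2 := step k l m hkl hmk hml hb
    have hb3 := step m k l hmk (Ne.symm hml) (Ne.symm hkl) hb2
    have key : ∀ k l m, k ≠ l → m ≠ k → m ≠ l → Both k l → Both l m →
        T k (F k) * d (F k) + 2 * (T l (F l) * d (F l)) + 1 = 0 := by
      intro k l m hkl hmk hml hb hb'
      obtain ⟨g, hg, hTg, hgF, hsum⟩ := hdec k l hkl hb
      obtain ⟨-, hdeg⟩ := h.deg_pair l (hFo l) hg (Ne.symm hgF) (hFT l) hTg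
      have h1 := h.EE k l
      rw [if_neg hkl, hsum, hFz l g hg hTg hgF,
        hBothSupp l m (Ne.symm hml) hb' (F k) (fun e => hFT l (e ▸ h.disj hkl (hFo k) (hFT k)))
          (Or.inr (h.disj (Ne.symm hmk) (hFo k) (hFT k))), hFE l] at h1
      have h2 := h.TE l k
      obtain ⟨hz', -⟩ := h.deg_pair l (hFo l) hg (Ne.symm hgF) (hFT l) hTg
      rw [if_neg (Ne.symm hkl), sum_of_support (T l) (Ne.symm (hFo l)) (Ne.symm hg) (Ne.symm hgF) hz',
        h.Eo] at h2
      have h3 := h.dE k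
      rw [hsum, hFE k] at h3
      have eF : E k (F l) = -T l (F l) := by
        rcases val_cases _ (h.normT l) (F l) with a | a | a
        · exact absurd a (hFT l)
        all_goals rw [a] at h1 ⊢; linarith
      have eg : E k g = T l g := by
        rw [eF] at h2
        rcases val_cases _ (h.normT l) (F l) with a | a | a
        · exact absurd a (hFT l)
        all_goals
          rcases val_cases _ (h.normT l) g with b | b | b
          · exact absurd b hTg
          all_goals rw [a, b] at h2; rw [b]; linarith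
      rw [eF, eg] at h3
      linarith
    have k1 := key k l m hkl hmk hml hb hb3
    have k2 := key l m k (Ne.symm hml) hkl (Ne.symm hmk) hb3 hb2
    have k3 := key m k l hmk (Ne.symm hml) (Ne.symm hkl) hb2 hb
    omega
  have hE0 : ∀ k l x, k ≠ l → x ≠ o → T l x ≠ 0 → E k x = 0 := fun k l x hkl hx hT => by
    by_contra e; exact hnoBoth k l hkl ⟨x, hx, hT, e⟩
  -- the element of `E k` shared with `P k`
  have hEW : ∀ k, E k (W k) = -P k (W k) := by
    intro k
    obtain ⟨l, m, hl, hm, hlm, -⟩ := others k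
    have h1 := h.PE k k
    rw [if_pos rfl, hPsum k l m hl hm hlm, hE0 k l _ (Ne.symm hl) (hso k l (Ne.symm hl)) (hsT k l (Ne.symm hl)),
      hE0 k m _ (Ne.symm hm) (hso k m (Ne.symm hm)) (hsT k m (Ne.symm hm))] at h1
    rcases hWv k with e | e <;> rw [e] at h1 ⊢ <;> linarith
  have hFW : ∀ k n, F k ≠ W n := fun k n e => hFT k (e ▸ hWT n k)
  have hU : ∀ k, ∃ u, u ≠ o ∧ (∀ n, T n u = 0) ∧ u ≠ W k ∧ (E k u = 1 ∨ E k u = -1) ∧
      ∀ x, x ≠ F k → x ≠ W k → x ≠ u → E k x = 0 := by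
    intro k
    have hWn : E k (W k) ≠ 0 := by rw [hEW]; rcases hWv k with e | e <;> rw [e] <;> norm_num
    obtain ⟨u, hu0, huF, huW⟩ : ∃ u, E k u ≠ 0 ∧ u ≠ F k ∧ u ≠ W k := by
      by_contra hne
      push Not at hne
      have := h.normE k
      rw [← sum_subset (subset_univ ({F k, W k} : Finset ι)) fun x _ hx => ?_, sum_pair (hFW k k)] at this
      · rcases val_cases _ (h.normE k) (F k) with e1 | e1 | e1 <;>
          rcases val_cases _ (h.normE k) (W k) with e2 | e2 | e2 <;> rw [e1, e2] at this <;> omega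
      · simp only [mem_insert, mem_singleton, not_or] at hx
        by_contra hne'
        exact hx.2 (hne x (left_ne_zero_of_mul hne') hx.1)
    have huo : u ≠ o := fun e => hu0 (e ▸ h.Eo k)
    refine ⟨u, huo, fun n => ?_, huW, (val_cases _ (h.normE k) u).resolve_left hu0, fun x h1 h2 h3 => ?_⟩
    · by_contra hn
      by_cases hnk : k = n
      · subst hnk; exact hu0 (hFz k u huo hn huF)
      · exact hu0 (hE0 k n u hnk huo hn)
    · by_contra hx
      rcases four_support (E k) (h.normE k) (hFW k k) (Ne.symm huF) (Ne.symm h1) (Ne.symm huW)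
        (Ne.symm h2) (Ne.symm h3) with e | e | e | e
      exacts [hFn k e, hWn e, hu0 e, hx e]
  choose U hUo hUT hUW hUv hUz using hU
  -- the third elements of different `P` differ
  have hPEcross : ∀ k l, l ≠ k → T k (s l k) * E k (s l k) + P l (W l) * E k (W l) = 0 := by
    intro k l hlk
    obtain ⟨m, hml, hmk, -⟩ := third l k hlk
    have h1 := h.PE l k
    rw [if_neg hlk, hPsum l k m (Ne.symm hlk) hml (Ne.symm hmk),
      hE0 k m _ (Ne.symm hmk) (hso l m (Ne.symm hml)) (hsT l m (Ne.symm hml))] at h1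
    linarith
  have hTE : ∀ k l, l ≠ k → T k (s l k) * E k (s l k) = if s l k = F k then -1 else 0 := by
    intro k l hlk
    split_ifs with e
    · rw [e, hFE k]
      rcases val_cases _ (h.normT k) (F k) with a | a | a
      · exact absurd a (hFT k)
      all_goals rw [a]; norm_num
    · rw [hFz k _ (hso l k hlk) (hsT l k hlk) e, mul_zero]
  have hWne : ∀ k l m, k ≠ l → m ≠ k → m ≠ l → W k ≠ W l ∧ s k m = s l m := by
    intro k l m hkl hmk hml
    have h1 := h.PP k l
    rw [if_neg hkl, hPsum k l m (Ne.symm hkl) hmk (Ne.symm hml),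
      hPdiag l _ (hso k l hkl) (hsT k l hkl), mul_zero, zero_add] at h1
    have hsame : T m (s k m) * P l (s k m) = if s k m = s l m then 1 else 0 := by
      split_ifs with e
      · rw [e, hsP l m (Ne.symm hml)]
        rcases val_cases _ (h.normT m) (s l m) with a | a | a
        · exact absurd a (hsT l m (Ne.symm hml))
        all_goals rw [a]; norm_num
      · rw [hsZ l m (Ne.symm hml) _ (hso k m (Ne.symm hmk)) (hsT k m (Ne.symm hmk)) e, mul_zero]
    rw [hsame] at h1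
    have hne : W k ≠ W l := by
      intro e
      have h2 := hPEcross k l (Ne.symm hkl)
      rw [hTE k l (Ne.symm hkl), ← e, hEW] at h2
      rw [e] at h2 h1
      rcases hWv l with a | a <;> rcases hWv k with b | b <;> rw [e] at b <;> rw [a] at h1 h2 <;>
        rw [b] at h1 h2 <;> split_ifs at h1 h2 <;> omega
    refine ⟨hne, ?_⟩
    by_contra hs
    rw [if_neg hs, zero_add] at h1
    have : P l (W k) = 0 := hWz l k m hkl hml (Ne.symm hmk) _ (Ne.symm (hsW l k k (Ne.symm hkl)))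
      (Ne.symm (hsW l m k (Ne.symm hml))) hne
    rw [this, mul_zero] at h1
    omega
  have hWd : ∀ k l, k ≠ l → W k ≠ W l := fun k l hkl => by
    obtain ⟨m, hmk, hml, -⟩ := third k l hkl
    exact (hWne k l m hkl hmk hml).1
  have hconst : ∀ k l m, l ≠ m → k ≠ m → k ≠ l → s k m = s l m := fun k l m hlm hkm hkl =>
    (hWne k l m hkl (Ne.symm hkm) (Ne.symm hlm)).2
  have hEWcross : ∀ k l, l ≠ k → s l k ≠ F k ∧ E k (W l) = 0 := by
    intro k l hlk
    have hcase : s l k = F k → W l = U k := by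
      intro e
      have h2 := hPEcross k l hlk
      rw [hTE k l hlk, if_pos e] at h2
      by_contra hne
      rw [hUz k (W l) (Ne.symm (hFW k l)) (hWd l k hlk) hne, mul_zero] at h2
      omega
    obtain ⟨m, hml, hmk, -⟩ := third l k hlk
    have hsF : s l k ≠ F k := fun e => hWd l m (Ne.symm hml)
      ((hcase e).trans (by
        have e' : s m k = F k := by rw [← hconst l m k hmk hlk (Ne.symm hml)]; exact e
        have h2 := hPEcross k m hmk
        rw [hTE k m hmk, if_pos e'] at h2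
        by_contra hne
        rw [hUz k (W m) (Ne.symm (hFW k m)) (hWd m k hmk) (Ne.symm hne), mul_zero] at h2
        omega))
    refine ⟨hsF, ?_⟩
    have h2 := hPEcross k l hlk
    rw [hTE k l hlk, if_neg hsF, zero_add] at h2
    exact (mul_eq_zero.1 h2).resolve_left (by rcases hWv l with a | a <;> rw [a] <;> norm_num)
  have hUeq : ∀ k l, k ≠ l → U k = U l ∧ E k (U k) = E l (U l) := by
    intro k l hkl
    have h1 := h.EE k l
    rw [if_neg hkl, sum_of_support (E k) (hFW k k) (fun e => hFT k (e ▸ hUT k k)) (Ne.symm (hUW k)) (hUz k),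
      hE0 l k _ (Ne.symm hkl) (hFo k) (hFT k), (hEWcross l k hkl).2, mul_zero, mul_zero, zero_add,
      zero_add] at h1
    have hne : E l (U k) ≠ 0 := fun e => by rw [e, mul_zero] at h1; omega
    have hUF : U k ≠ F l := fun e => hFT l (e ▸ hUT k l)
    have hUW' : U k ≠ W l := fun e => by
      have := (hEWcross k l (Ne.symm hkl)).2
      rw [← e] at this
      rcases hUv k with a | a <;> omega
    have heq : U k = U l := by by_contra e; exact hne (hUz l (U k) hUF hUW' e)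
    refine ⟨heq, ?_⟩
    rw [← heq]
    rcases hUv k with a | a <;> rw [a] at h1 ⊢ <;> linarith
  -- assemble
  have hn1 : ∀ k : Fin 3, k + 1 ≠ k ∧ k + 2 ≠ k ∧ k + 1 ≠ k + 2 := by decide
  let L : Fin 3 → ι := fun k => s (k + 1) k
  have hLs : ∀ k l, l ≠ k → s l k = L k := fun k l hlk => by
    by_cases e : l = k + 1
    · rw [e]
    · exact hconst l (k + 1) k (hn1 k).1 hlk e
  have hval : ∀ k x, T k x ≠ 0 → T k x = 1 ∨ T k x = -1 := fun k x hx =>
    (val_cases _ (h.normT k) x).resolve_left hx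
  refine ⟨L, F, W, U 0, fun k => T k (L k), fun k => -T k (F k), fun k => -P k (W k), -E 0 (U 0),
    fun k l e => by_contra fun hne => hsne (k + 1) k (l + 1) l (hn1 k).1 (hn1 l).1 hne e,
    fun k => hso _ _ (hn1 k).1, fun k => hval k _ (hsT _ _ (hn1 k).1), fun k => ?_, fun k => ?_,
    by rcases hUv 0 with e | e <;> simp [e],
    fun k f => ?_, fun k f => ?_, fun k f => ?_⟩
  · rcases hval k _ (hFT k) with e | e <;> simp [e]
  · rcases hWv k with e | e <;> simp [e]
  · have hLF : L k ≠ F k := (hEWcross k (k + 1) (hn1 k).1).1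
    obtain ⟨hz, -⟩ := h.deg_pair k (hso _ _ (hn1 k).1) (hFo k) hLF (hsT _ _ (hn1 k).1) (hFT k)
    rw [← sum_subset (subset_univ ({o, L k, F k} : Finset ι)) fun i _ hi => ?_]
    · rw [sum_insert (by simp [Ne.symm (hso _ _ (hn1 k).1), Ne.symm (hFo k), L]), sum_pair hLF, h.To]
      push_cast; ring
    · simp only [mem_insert, mem_singleton, not_or] at hi
      rw [hz i hi.1 hi.2.1 hi.2.2, Int.cast_zero, zero_mul]
  · obtain ⟨a1, a2, a12⟩ := hn1 k
    have e1 := hLs (k + 1) k (Ne.symm a1)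
    have e2 := hLs (k + 2) k (Ne.symm a2)
    rw [← sum_subset (subset_univ ({L (k + 1), L (k + 2), W k} : Finset ι)) fun i _ hi => ?_]
    · rw [sum_insert (by
        rw [← e1, ← e2]
        simp [hsne k (k + 1) k (k + 2) (Ne.symm a1) (Ne.symm a2) a12, hsW k (k + 1) k (Ne.symm a1)]),
        sum_pair (by rw [← e2]; exact hsW k (k + 2) k (Ne.symm a2))]
      rw [← e1, ← e2, hsP k _ (Ne.symm a1), hsP k _ (Ne.symm a2), e1, e2]
      push_cast; ring
    · simp only [mem_insert, mem_singleton, not_or, ← e1, ← e2] at hi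
      rw [hWz k (k + 1) (k + 2) a1 a2 a12 i hi.1 hi.2.1 hi.2.2, Int.cast_zero, zero_mul]
  · have hU0 : U k = U 0 ∧ E k (U k) = E 0 (U 0) := by
      by_cases e : k = 0
      · subst e; exact ⟨rfl, rfl⟩
      · exact hUeq k 0 e
    rw [← sum_subset (subset_univ ({F k, W k, U k} : Finset ι)) fun i _ hi => ?_]
    · rw [sum_insert (by simp [hFW k k, show F k ≠ U k from fun e => hFT k (e ▸ hUT k k)]),
        sum_pair (Ne.symm (hUW k)), hFE k, hEW k, hU0.2, hU0.1]
      push_cast; ring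
    · simp only [mem_insert, mem_singleton, not_or] at hi
      rw [hUz k i hi.1 hi.2.1 hi.2.2, Int.cast_zero, zero_mul]

end CfsgLib.Recog.ThreeCubeFour
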