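import Cfsg.Agent.Lib.Recog.ThreeCubeFour.Model
import Cfsg.Agent.Lib.Recog.ThreeCubeFour.Pattern
import Cfsg.Agent.Lib.Recog.ThreeCubeFour.Arith
import Cfsg.Agent.Lib.Char.Exceptional.D8Centralizer
import Cfsg.Agent.Lib.Core.FPF
import Mathlib.GroupTheory.Transfer

/-!
# A strongly `3`-embedded subgroup `3³ : 2²` is the whole group
-/

open scoped Classical

set_option autoImplicit false
set_option linter.all false
set_option maxHeartbeats 1000000

namespace CfsgLib.Recog.ThreeCubeFour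

open CfsgLib.Char CfsgLib.Char.Exceptional Subgroup

variable {G : Type*} [Group G] [Finite G]

/-- The image of `3³`. -/
def tImg (f : M →* G) : Subgroup G := tHom.ker.map f

theorem mem_tImg {f : M →* G} {g : G} : g ∈ tImg f ↔ ∃ m, tHom m = 1 ∧ f m = g := by
  simp [tImg, Subgroup.mem_map, MonoidHom.mem_ker]

theorem tHom_of_pow : ∀ m : M, m ^ 27 = 1 → tHom m = 1 := fun m h => by
  have h1 : tHom m ^ 27 = 1 := by rw [← map_pow, h, map_one]
  have h2 : tHom m ^ 2 = 1 := Prod.ext (Int.units_sq _) (Int.units_sq _)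
  rw [show 27 = 2 * 13 + 1 from rfl, pow_succ, pow_mul, h2, one_pow, one_mul] at h1
  exact h1

theorem card_tM : Nat.card tHom.ker = 27 := by
  rw [Nat.card_congr (Equiv.subtypeEquivRight fun m => MonoidHom.mem_ker.trans (tHom_cube m)),
    Nat.card_eq_fintype_card]
  decide +kernel

/-- Trivial intersection of the `3`-singular elements. -/
theorem ti (f : M →* G) (hf : Function.Injective f)
    (hN : normalizer (tImg f : Set G) = f.range)
    (hC : ∀ t ∈ tImg f, t ≠ 1 → centralizer ({t} : Set G) ≤ f.range) :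
    ∀ g : G, g ∉ f.range → ∀ s ∈ {g : G | ∃ m, f m = g ∧ m * m ≠ 1},
      g * s * g⁻¹ ∉ {g : G | ∃ m, f m = g ∧ m * m ≠ 1} := by
  rintro g hg s ⟨m, rfl, hm⟩ ⟨m', hm', hm'2⟩
  apply hg
  set t := f (m * m) with ht
  set t' := f (m' * m') with ht'
  have htT : t ∈ tImg f := mem_tImg.2 ⟨_, sq_mem m hm, rfl⟩
  have htT' : t' ∈ tImg f := mem_tImg.2 ⟨_, sq_mem m' hm'2, rfl⟩
  have hconj : g * t * g⁻¹ = t' := by rw [ht', map_mul, hm', ht, map_mul]; group
  have ht'1 : t' ≠ 1 := fun e => hm'2 (hf (e.trans (map_one f).symm))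
  rw [← hN, mem_normalizer_iff_map_conj_eq]
  refine Subgroup.eq_of_le_of_card_ge (fun y hy => ?_) (by
    rw [card_map_of_injective (MulAut.conj g).injective])
  obtain ⟨a, ha, rfl⟩ := mem_map.1 hy
  show g * a * g⁻¹ ∈ tImg f
  have hac : a * t = t * a := by
    obtain ⟨n, hn, rfl⟩ := mem_tImg.1 ha
    rw [ht, ← map_mul f n (m * m), tHom_comm n hn _ (sq_mem m hm), map_mul]
  have hmem : g * a * g⁻¹ ∈ f.range := by
    refine hC t' htT' ht'1 (mem_centralizer_singleton_iff.2 ?_)
    rw [← hconj]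
    calc g * a * g⁻¹ * (g * t * g⁻¹) = g * (a * t) * g⁻¹ := by group
      _ = g * t * g⁻¹ * (g * a * g⁻¹) := by rw [hac]; group
  obtain ⟨n, hn⟩ := hmem
  refine mem_tImg.2 ⟨n, tHom_of_pow n (hf ?_), hn⟩
  obtain ⟨k, hk, rfl⟩ := mem_tImg.1 ha
  rw [map_pow, hn, conj_pow, ← map_pow, map_one,
    show k ^ 27 = 1 from by
      have h3 : k ^ 3 = 1 := by rw [pow_succ, pow_two]; exact (tHom_cube k).1 hk
      rw [show 27 = 3 * 9 from rfl, pow_mul, h3, one_pow],
    map_one, mul_one, mul_inv_cancel]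

theorem range_sum {H : Type*} [Group H] [Fintype H] {K : Type*} [Group K] [Fintype K]
    {A : Type*} [AddCommMonoid A] (e : H ≃* K) (F : K → A) : ∑ h : H, F (e h) = ∑ k : K, F k :=
  Fintype.sum_equiv e.toEquiv _ _ fun _ => rfl

/-- Three linear characters that separate the three involution types. -/
theorem exists_linear (f : M →* G) (hf : Function.Injective f)
    (hN : normalizer (tImg f : Set G) = f.range)
    (hC : ∀ t ∈ tImg f, t ≠ 1 → centralizer ({t} : Set G) ≤ f.range) :
    ∃ l : Fin 3 → (G →* ℂˣ), Function.Injective l ∧ ∀ k, l k ≠ 1 := by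
  haveI := Fintype.ofFinite G
  set H := f.range with hH
  let e : M ≃* H := MonoidHom.ofInjective hf
  haveI := Fintype.ofFinite H
  have hTI := ti f hf hN hC
  set S : Set G := {g : G | ∃ m, f m = g ∧ m * m ≠ 1} with hS
  have hSH : S ⊆ H := by rintro _ ⟨m, rfl, -⟩; exact ⟨m, rfl⟩
  have hSinv : ∀ s ∈ S, s⁻¹ ∈ S := by
    rintro _ ⟨m, rfl, hm⟩
    exact ⟨m⁻¹, map_inv f m, fun h => hm (inv_injective (by rw [_root_.mul_inv_rev, h, inv_one]))⟩
  let φ : Fin 3 → Fin 3 → H → ℂ := fun a k h => (famF a k (e.symm h) : ℂ)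
  have hgen : ∀ a k, Cfsg.IsGeneralizedCharacter H (φ a k) := fun a k =>
    IsGen.comp e.symm.toMonoidHom (isGen_famF a k)
  have he : ∀ h : H, f (e.symm h) = h := fun h => by
    conv_rhs => rw [← e.apply_symm_apply h]
    rfl
  have hsupp : ∀ a k (h : H), (h : G) ∉ S → φ a k h = 0 := fun a k h hh => by
    show ((famF a k (e.symm h) : ℤ) : ℂ) = 0
    rw [famF_supp a k _ (by_contra fun hne => hh ⟨_, he h, hne⟩), Int.cast_zero]
  have hcardH : (Nat.card H : ℂ) = 108 := by
    rw [← Nat.card_congr e.toEquiv, card_M]; norm_num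
  have hinner : ∀ a k b l, Cfsg.classInner (φ a k) (φ b l) = (gram a k b l : ℂ) := fun a k b l => by
    rw [Cfsg.classInner, hcardH]
    have : ∑ h : H, φ a k h * (starRingEnd ℂ) (φ b l h) = ((∑ m : M, famF a k m * famF b l m : ℤ) : ℂ) := by
      rw [Int.cast_sum, ← range_sum e.symm]
      exact Finset.sum_congr rfl fun h _ => by simp [φ]
    rw [this, famF_gram]
    push_cast
    ring
  have hone : ∀ a k, Cfsg.classInner (Cfsg.indFun H (φ a k)) (fun _ => 1) = (triv a : ℂ) := fun a k => by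
    rw [frobenius_reciprocity H (φ a k) (fun _ _ => rfl), Cfsg.classInner, hcardH]
    have : ∑ h : H, φ a k h * (starRingEnd ℂ) 1 = ((∑ m : M, famF a k m : ℤ) : ℂ) := by
      rw [Int.cast_sum, ← range_sum e.symm]
      exact Finset.sum_congr rfl fun h _ => by simp [φ]
    rw [this, famF_triv]
    push_cast
    ring
  letI := Fintype.ofFinite (Cfsg.IrrCharacter G)
  choose c hc using fun a k => IsGen.exists_sum (IsGen.indFun H (hgen a k))
  have hdot : ∀ a b : Cfsg.IrrCharacter G → ℤ,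
      Cfsg.classInner (∑ θ, (a θ : ℂ) • (θ : G → ℂ)) (∑ θ, (b θ : ℂ) • (θ : G → ℂ)) =
        ((∑ θ, a θ * b θ : ℤ) : ℂ) := fun a b => by
    rw [classInner_sum_right]
    simp only [classInner_smul_right, classInner_sum_irr, map_intCast, Int.cast_sum, Int.cast_mul]
    exact Finset.sum_congr rfl fun θ _ => mul_comm _ _
  have hG : ∀ a k b l, ∑ θ, c a k θ * c b l θ = gram a k b l := fun a k b l => by
    have h := hdot (c a k) (c b l)
    rw [← hc, ← hc, ti_indFun_inner hTI (hsupp a k) (IsGen.isClassFunction (hgen b l)) (hsupp b l),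
      hinner] at h
    exact_mod_cast h.symm
  have ho : ∀ a k, c a k (trivChar G) = triv a := fun a k => by
    have h := classInner_sum_irr (fun θ => (c a k θ : ℂ)) (trivChar G)
    rw [← hc] at h
    have h2 : Cfsg.classInner (Cfsg.indFun H (φ a k)) (fun _ => 1) = (c a k (trivChar G) : ℂ) := h
    rw [hone] at h2
    exact_mod_cast h2.symm
  choose dg hdg0 hdg using fun θ : Cfsg.IrrCharacter G => IsIrr.exists_degree θ.2
  have heval : ∀ a k g, Cfsg.indFun H (φ a k) g = ∑ θ, (c a k θ : ℂ) * (θ : G → ℂ) g := fun a k g => by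
    rw [hc a k, Finset.sum_apply]
    simp only [Pi.smul_apply, smul_eq_mul]
  have hdeg : ∀ a k, ∑ θ, c a k θ * (dg θ : ℤ) = 0 := fun a k => by
    have h : Cfsg.indFun H (φ a k) 1 = 0 := by
      rw [indFun_apply_one]
      show _ * ((famF a k (e.symm 1) : ℤ) : ℂ) = 0
      rw [map_one, famF_supp a k 1 (mul_one 1), Int.cast_zero, mul_zero]
    rw [heval] at h
    simp only [hdg] at h
    exact_mod_cast h
  have hdg1 : dg (trivChar G) = 1 := by
    have h := hdg (trivChar G)
    rw [trivChar_apply] at h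
    exact_mod_cast h.symm
  have hyp : Hyp (trivChar G) (fun θ => (dg θ : ℤ)) (c 0) (c 1) (c 2) :=
    { dpos := fun θ => by exact_mod_cast hdg0 θ
      done := by simp [hdg1]
      To := fun k => ho 0 k
      Po := fun k => ho 1 k
      Eo := fun k => ho 2 k
      dT := hdeg 0
      dP := hdeg 1
      dE := hdeg 2
      TT := fun k l => hG 0 k 0 l
      PP := fun k l => hG 1 k 1 l
      EE := fun k l => hG 2 k 2 l
      TP := fun k l => hG 0 k 1 l
      TE := fun k l => hG 0 k 2 l
      PE := fun k l => hG 1 k 2 l }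
  obtain ⟨L, F, W, U, α, β, γ, ε, hLinj, hLne, hα, hβ, hγ, hε, hT, hP, hE⟩ := hyp.pattern
  set x : Fin 3 → ℂ := fun k => (α k : ℂ) * dg (L k) with hx
  have hd0 : ∀ θ, (dg θ : ℂ) ≠ 0 := fun θ => by exact_mod_cast (hdg0 θ).ne'
  have hsgn : ∀ z : ℤ, (z = 1 ∨ z = -1) → (z : ℂ) ≠ 0 ∧ (z : ℂ) * z = 1 := by
    rintro z (rfl | rfl) <;> norm_num
  have hidx3 : ∀ k : Fin 3, ∀ v : Fin 3 → ℂ, v k + v (k + 1) + v (k + 2) = v 0 + v 1 + v 2 := by
    intro k v; fin_cases k <;> simp only [Fin.reduceFinMk, Fin.reduceAdd, Fin.isValue, zero_add] <;> ring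
  have hdz : ∀ a k, ∑ θ, (c a k θ : ℂ) * (dg θ : ℂ) = 0 := fun a k => by exact_mod_cast hdeg a k
  have hΦd : ∀ k, (β k : ℂ) * dg (F k) = 1 + x k := fun k => by
    have h := hdz 0 k
    rw [hT k fun θ => (dg θ : ℂ), hdg1, Nat.cast_one] at h
    linear_combination -h
  have hWd : ∀ k, (γ k : ℂ) * dg (W k) = x (k + 1) + x (k + 2) := fun k => by
    have h := hdz 1 k
    rw [hP k fun θ => (dg θ : ℂ)] at h
    linear_combination -h
  have hUd : (ε : ℂ) * dg U = 1 + x 0 + x 1 + x 2 := by
    have h := hdz 2 0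
    rw [hE 0 fun θ => (dg θ : ℂ)] at h
    have h0 := hΦd 0
    have h1 := hWd 0
    simp only [Fin.reduceAdd, Fin.isValue, zero_add] at h1
    linear_combination h0 + h1 - h
  have hεne : (ε : ℂ) ≠ 0 := (hsgn _ hε).1
  have hxne : ∀ k, x k ≠ 0 := fun k => mul_ne_zero (hsgn _ (hα k)).1 (hd0 _)
  have hx1 : ∀ k, 1 + x k ≠ 0 := fun k => hΦd k ▸ mul_ne_zero (hsgn _ (hβ k)).1 (hd0 _)
  have hxx : ∀ k : Fin 3, x (k + 1) + x (k + 2) ≠ 0 := fun k =>
    hWd k ▸ mul_ne_zero (hsgn _ (hγ k)).1 (hd0 _)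
  have hD : 1 + x 0 + x 1 + x 2 ≠ 0 := hUd ▸ mul_ne_zero hεne (hd0 _)
  have hdeg1 : ∀ k, x k = 1 := by
    refine degrees_one x hxne hx1 hxx hD (fun k l => IsConj (f (uu k)) (f (uu l)))
      (fun k => IsConj.refl _) (fun k l h => h.symm) (fun k l n h1 h2 => h1.trans h2) fun j => ?_
    set u := f (uu j) with hu
    have huu : uu j * uu j = 1 := (uu_prod j).1
    have huM : uu j ≠ 1 := ((Finset.mem_filter.1 (uu_mem j)).2).2.1
    have hu1 : u ≠ 1 := fun h => huM (hf (h.trans (map_one f).symm))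
    have hu2 : u * u = 1 := by rw [hu, ← map_mul, huu, map_one]
    have huo : orderOf u = 2 := by
      haveI : Fact (Nat.Prime 2) := ⟨Nat.prime_two⟩
      exact orderOf_eq_prime (by rw [pow_two, hu2]) hu1
    have hzero : ∀ a k, ∑ θ, (c a k θ : ℂ) * (θ : G → ℂ) u = 0 := fun a k => by
      rw [← heval]
      refine indFun_eq_zero_of_support (hsupp a k) fun y => ?_
      rintro ⟨m, hm, hm2⟩
      refine hm2 (hf ?_)
      rw [map_mul, hm, map_one]
      calc y⁻¹ * u * y * (y⁻¹ * u * y) = y⁻¹ * (u * u) * y := by group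
        _ = 1 := by rw [hu2]; group
    set p : Fin 3 → ℂ := fun k => (α k : ℂ) * (L k : G → ℂ) u with hp
    have hΦu : ∀ k, (β k : ℂ) * (F k : G → ℂ) u = 1 + p k := fun k => by
      have h := hzero 0 k
      rw [hT k fun θ => (θ : G → ℂ) u, trivChar_apply] at h
      linear_combination -h
    have hWu : ∀ k, (γ k : ℂ) * (W k : G → ℂ) u = p (k + 1) + p (k + 2) := fun k => by
      have h := hzero 1 k
      rw [hP k fun θ => (θ : G → ℂ) u] at h
      linear_combination -h
    have hUu : (ε : ℂ) * (U : G → ℂ) u = 1 + p 0 + p 1 + p 2 := by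
      have h := hzero 2 0
      rw [hE 0 fun θ => (θ : G → ℂ) u] at h
      have h0 := hΦu 0
      have h1 := hWu 0
      simp only [Fin.reduceAdd, Fin.isValue, zero_add] at h1
      linear_combination h0 + h1 - h
    set N := (centralizer ({u} : Set G)).index with hNdef
    have hN0 : (N : ℂ) ≠ 0 := Nat.cast_ne_zero.2 Subgroup.index_ne_zero_of_finite
    set κ : ℂ := (H.index : ℂ) / (N : ℂ) ^ 2 with hκ
    have hκ0 : κ ≠ 0 := div_ne_zero (Nat.cast_ne_zero.2 Subgroup.index_ne_zero_of_finite) (pow_ne_zero 2 hN0)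
    set R : Fin 3 → ℂ := fun l => if IsConj u (f (uu l)) then 1 else 0 with hR
    refine ⟨p, κ, hκ0, ?_⟩
    -- the pair sums
    have hKset : (Finset.univ.filter fun m : M => IsConj u (f m)) =
        (Finset.univ.filter fun l : Fin 3 => IsConj u (f (uu l))).biUnion invK := by
      ext m
      simp only [Finset.mem_filter, Finset.mem_univ, true_and, Finset.mem_biUnion]
      constructor
      · intro hm
        obtain ⟨c', hc'⟩ := isConj_iff.1 hm
        have hm2 : m * m = 1 := hf (by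
          rw [map_mul, map_one, ← hc']
          calc c' * u * c'⁻¹ * (c' * u * c'⁻¹) = c' * (u * u) * c'⁻¹ := by group
            _ = 1 := by rw [hu2]; group)
        have hm1 : m ≠ 1 := fun h => hu1 (by
          rw [h, map_one] at hc'
          exact conj_eq_one_iff.1 hc')
        obtain ⟨l, hl⟩ := inv_cases m hm2 hm1
        obtain ⟨b, hb⟩ := invK_conj l m hl
        refine ⟨l, hm.trans (IsConj.symm (isConj_iff.2 ⟨f b, ?_⟩)), hl⟩
        rw [← hb, map_mul, map_mul, map_inv]
      · rintro ⟨l, hl, hm⟩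
        obtain ⟨b, hb⟩ := invK_conj l m hm
        exact hl.trans (isConj_iff.2 ⟨f b, by rw [← hb, map_mul, map_mul, map_inv]⟩)
    have hdisj : ((Finset.univ.filter fun l : Fin 3 => IsConj u (f (uu l))) : Set (Fin 3)).PairwiseDisjoint
        invK := fun a _ b _ hab => Finset.disjoint_left.2 fun m ha hb => hab (invK_disj a b m ha hb)
    have hsum : ∀ a k, ∑ θ, (c a k θ : ℂ) * ((θ : G → ℂ) u ^ 2 / dg θ) =
        κ * ∑ l, ∑ n, R l * R n * (pairT a k l n : ℂ) := by
      intro a k
      have hfin := ti_involution_pair_sum hTI hSH hSinv (hsupp a k) huo huo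
      rw [finsum_mem_eq_toFinset_sum, finsum_mem_eq_toFinset_sum] at hfin
      set cls := CharIntegral.classFinset u with hcls
      have hA : {p : G × G | IsConj u p.1 ∧ IsConj u p.2}.toFinset = cls ×ˢ cls := by
        ext q
        rw [Set.mem_toFinset, Finset.mem_product, hcls, CharIntegral.mem_classFinset,
          CharIntegral.mem_classFinset]
        rfl
      rw [hA, Finset.sum_product] at hfin
      rw [Finset.sum_congr rfl fun x _ => Finset.sum_congr rfl fun y _ => heval a k (x * y)] at hfin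
      have hterm : ∑ x ∈ cls, ∑ y ∈ cls, ∑ θ, (c a k θ : ℂ) * (θ : G → ℂ) (x * y) =
          (N : ℂ) ^ 2 * ∑ θ, (c a k θ : ℂ) * ((θ : G → ℂ) u ^ 2 / dg θ) := by
        rw [Finset.sum_congr rfl fun x _ => Finset.sum_comm, Finset.sum_comm, Finset.mul_sum]
        refine Finset.sum_congr rfl fun θ _ => ?_
        simp only [← Finset.mul_sum]
        rw [D8Centralizer.class_pair_sum θ (hdg θ) u, ← hNdef]
        ring
      rw [hterm] at hfin
      have hB : ∑ q ∈ {p : H × H | IsConj u (p.1 : G) ∧ IsConj u (p.2 : G)}.toFinset, φ a k (q.1 * q.2) =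
          ∑ l, ∑ n, R l * R n * (pairT a k l n : ℂ) := by
        have h1 : ∑ q ∈ {p : H × H | IsConj u (p.1 : G) ∧ IsConj u (p.2 : G)}.toFinset,
            φ a k (q.1 * q.2) = ∑ i ∈ Finset.univ.filter fun m : M => IsConj u (f m),
              ∑ j ∈ Finset.univ.filter fun m : M => IsConj u (f m), ((famF a k (i * j) : ℤ) : ℂ) := by
          rw [← Finset.sum_product']
          refine Finset.sum_bij' (fun q _ => (e.symm q.1, e.symm q.2)) (fun q _ => (e q.1, e q.2))
            ?_ ?_ ?_ ?_ ?_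
          · intro q hq
            simp only [Set.mem_toFinset, Set.mem_setOf_eq] at hq
            simp only [Finset.mem_product, Finset.mem_filter, Finset.mem_univ, true_and, he]
            exact hq
          · intro q hq
            simp only [Finset.mem_product, Finset.mem_filter, Finset.mem_univ, true_and] at hq
            simp only [Set.mem_toFinset, Set.mem_setOf_eq]
            exact hq
          · intro q _; simp
          · intro q _; simp
          · intro q _; simp [φ]
        rw [h1, hKset, Finset.sum_biUnion hdisj]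
        simp only [Finset.sum_biUnion hdisj]
        rw [Finset.sum_filter]
        refine Finset.sum_congr rfl fun l _ => ?_
        by_cases hl : IsConj u (f (uu l))
        · rw [if_pos hl]
          rw [Finset.sum_comm, Finset.sum_filter]
          refine Finset.sum_congr rfl fun n _ => ?_
          by_cases hn : IsConj u (f (uu n))
          · rw [if_pos hn]
            simp only [hR, if_pos hl, if_pos hn, one_mul]
            rw [← famF_pairs, Int.cast_sum]
            exact Finset.sum_congr rfl fun i _ => by rw [Int.cast_sum]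
          · rw [if_neg hn]; simp only [hR, if_neg hn, mul_zero, zero_mul]
        · rw [if_neg hl]; exact (Finset.sum_eq_zero fun n _ => by simp only [hR, if_neg hl, zero_mul]).symm
      rw [hB] at hfin
      rw [hκ, div_mul_eq_mul_div, eq_div_iff (pow_ne_zero 2 hN0)]
      linear_combination hfin
    have key : ∀ (z : ℤ), (z = 1 ∨ z = -1) → ∀ (θ : Cfsg.IrrCharacter G),
        (z : ℂ) * ((θ : G → ℂ) u ^ 2 / dg θ) = ((z : ℂ) * (θ : G → ℂ) u) ^ 2 / ((z : ℂ) * dg θ) := by
      rintro z (rfl | rfl) θ <;> push_cast <;> field_simp [hd0 θ]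
    intro k
    obtain ⟨hpa, hpb, hpe⟩ : (∑ l, ∑ n, R l * R n * (pairT 0 k l n : ℂ)) = 162 * (R (k + 1) + R (k + 2)) ^ 2 ∧
        (∑ l, ∑ n, R l * R n * (pairT 1 k l n : ℂ)) = 162 * (R (k + 1) - R (k + 2)) ^ 2 ∧
        (∑ l, ∑ n, R l * R n * (pairT 2 k l n : ℂ)) = 324 * (R k) ^ 2 := by
      fin_cases k <;> refine ⟨?_, ?_, ?_⟩ <;>
        simp [Fin.sum_univ_three, pairT] <;> ring
    have qA := hsum 0 k
    have qB := hsum 1 k
    have qE := hsum 2 k
    rw [hpa, hT k fun θ => (θ : G → ℂ) u ^ 2 / dg θ, key _ (hα k), key _ (hβ k), hΦu, hΦd,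
      trivChar_apply, hdg1, Nat.cast_one] at qA
    rw [hpb, hP k fun θ => (θ : G → ℂ) u ^ 2 / dg θ, key _ (hα _), key _ (hα _), key _ (hγ k), hWu, hWd] at qB
    rw [hpe, hE k fun θ => (θ : G → ℂ) u ^ 2 / dg θ, key _ (hβ k), key _ (hγ k), hΦu, hΦd, hWu, hWd] at qE
    have hεsq : (ε : ℂ) * ((U : G → ℂ) u ^ 2 / dg U) =
        (1 + p 0 + p 1 + p 2) ^ 2 / (1 + x 0 + x 1 + x 2) := by
      rw [← hUu, ← hUd]
      field_simp [hεne, hd0 U]
    rw [hεsq, show 1 + x 0 + x 1 + x 2 = 1 + x k + x (k + 1) + x (k + 2) by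
        linear_combination -(hidx3 k x),
      show 1 + p 0 + p 1 + p 2 = 1 + p k + p (k + 1) + p (k + 2) by
        linear_combination -(hidx3 k p)] at qE
    rw [← show (α k : ℂ) * (L k : G → ℂ) u = p k from rfl] at *
    simp only [← hp, ← hx, show ∀ k, (α k : ℂ) * (dg (L k) : ℂ) = x k from fun _ => rfl,
      show ∀ k, (α k : ℂ) * (L k : G → ℂ) u = p k from fun _ => rfl] at qA qB qE ⊢
    have hDk : 1 + x k + x (k + 1) + x (k + 2) ≠ 0 := by
      intro h; exact hD (by linear_combination h - hidx3 k x)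
    have a1 := hxne k
    have a2 := hxne (k + 1)
    have a3 := hxne (k + 2)
    have a4 := hx1 k
    have a5 := hxx k
    refine ⟨?_, ?_, ?_⟩
    · show (p k - x k) ^ 2 = 162 * κ * (R (k + 1) + R (k + 2)) ^ 2 * (x k * (1 + x k))
      field_simp at qA
      linear_combination qA
    · show (p (k + 1) * x (k + 2) - p (k + 2) * x (k + 1)) ^ 2 =
        162 * κ * (R (k + 1) - R (k + 2)) ^ 2 * (x (k + 1) * x (k + 2) * (x (k + 1) + x (k + 2)))
      field_simp at qB
      linear_combination qB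
    · show ((1 + p k) * (x (k + 1) + x (k + 2)) - (p (k + 1) + p (k + 2)) * (1 + x k)) ^ 2 =
        324 * κ * (R k) ^ 2 * ((1 + x k) * (x (k + 1) + x (k + 2)) * (1 + x k + x (k + 1) + x (k + 2)))
      field_simp at qE
      linear_combination qE
  have hL1 : ∀ k, (L k : G → ℂ) 1 = 1 := by
    intro k
    have h := hdeg1 k
    rcases hα k with e1 | e1
    · rw [hx] at h; simp only [e1, Int.cast_one, one_mul] at h; rw [hdg, h]
    · exfalso
      rw [hx] at h
      simp only [e1, Int.cast_neg, Int.cast_one, neg_mul, one_mul] at h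
      have : ((dg (L k) + 1 : ℕ) : ℂ) = 0 := by push_cast; linear_combination -h
      exact_mod_cast Nat.succ_ne_zero _ (Nat.cast_eq_zero.1 this)
  choose l hl using fun k => exists_linear_of_degree_one (IsIrr.isCharacter (L k).2) (hL1 k)
  refine ⟨l, fun a b hab => hLinj (Subtype.ext (by rw [hl a, hl b, hab])), fun k hk => hLne k ?_⟩
  refine Subtype.ext ?_
  rw [hl k, hk]
  funext g
  simp

theorem range_eq_top (f : M →* G) (hf : Function.Injective f)
    (hN : normalizer (tImg f : Set G) = f.range)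
    (hC : ∀ t ∈ tImg f, t ≠ 1 → centralizer ({t} : Set G) ≤ f.range) : f.range = ⊤ := by
  obtain ⟨l, hl, hl1⟩ := exists_linear f hf hN hC
  haveI : Fact (Nat.Prime 3) := ⟨Nat.prime_three⟩
  set T := tImg f with hT
  have hcT : Nat.card T = 27 := by rw [hT, tImg, card_map_of_injective hf, card_tM]
  have hTp : IsPGroup 3 T := IsPGroup.of_card (n := 3) (by rw [hcT]; norm_num)
  obtain ⟨P, hP⟩ := hTp.exists_le_sylow
  have hPT : (P : Subgroup G) = T := by
    by_contra hne
    haveI : Group.IsNilpotent (P : Subgroup G) := P.2.isNilpotent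
    have hlt : T.subgroupOf (P : Subgroup G) < ⊤ := by
      rw [lt_top_iff_ne_top, Ne, subgroupOf_eq_top]
      exact fun h => hne (le_antisymm h hP)
    obtain ⟨⟨n, hnP⟩, hn, hnT⟩ := SetLike.exists_of_lt (normalizerCondition_of_isNilpotent _ hlt)
    refine hnT (mem_subgroupOf.2 ?_)
    have hnN : n ∈ normalizer (T : Set G) := by
      rw [mem_normalizer_iff_map_conj_eq]
      refine Subgroup.eq_of_le_of_card_ge (fun y hy => ?_) (by
        rw [card_map_of_injective (MulAut.conj n).injective])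
      obtain ⟨a, ha, rfl⟩ := mem_map.1 hy
      exact mem_subgroupOf.1 ((mem_normalizer_iff.1 hn ⟨a, hP ha⟩).1 (mem_subgroupOf.2 ha))
    obtain ⟨m, hm⟩ := (hN ▸ hnN : n ∈ f.range)
    refine mem_tImg.2 ⟨m, tHom_of_pow m (hf ?_), hm⟩
    obtain ⟨j, hj⟩ := P.2 ⟨n, hnP⟩
    rw [map_pow, map_one, hm]
    have hd : orderOf n ∣ Nat.card f.range := Subgroup.orderOf_dvd_natCard _ ⟨m, hm⟩
    rw [← Nat.card_congr (MonoidHom.ofInjective hf).toEquiv, card_M] at hd
    have hd2 : orderOf n ∣ 3 ^ j := orderOf_dvd_of_pow_eq_one (congrArg Subtype.val hj)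
    obtain ⟨i, -, hi⟩ := (Nat.dvd_prime_pow Nat.prime_three).1 hd2
    refine orderOf_dvd_iff_pow_eq_one.1 ?_
    rw [hi, show (27 : ℕ) = 3 ^ 3 by norm_num]
    refine pow_dvd_pow 3 ?_
    rw [hi] at hd
    have hle := (Nat.prime_three.pow_dvd_iff_le_factorization (by norm_num)).1 hd
    have : (108 : ℕ).factorization 3 = 3 := by
      rw [show (108 : ℕ) = 3 ^ 3 * 4 by norm_num, Nat.factorization_mul (by norm_num) (by norm_num),
        Finsupp.add_apply, Nat.Prime.factorization_pow Nat.prime_three,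
        Nat.factorization_eq_zero_of_not_dvd (by norm_num : ¬ 3 ∣ 4)]
      simp
    omega
  have hkillT : ∀ k, T ≤ (l k).ker := by
    intro k t ht
    obtain ⟨m, hm, rfl⟩ := mem_tImg.1 ht
    obtain ⟨a, b, hab⟩ := tHom_comm_eq m hm
    rw [MonoidHom.mem_ker, ← hab]
    simp [mul_comm, mul_left_comm]
  set K := normalClosure (T : Set G) with hK
  have hTK : T ≤ K := le_normalClosure
  haveI : K.Normal := normalClosure_normal
  have hKH : K ⊔ f.range = ⊤ := by
    have hPK : (P : Subgroup G) ≤ K := hPT ▸ hTK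
    have h : normalizer ((P : Subgroup G) : Set G) ⊔ K = ⊤ := Sylow.normalizer_sup_eq_top' P hPK
    rw [hPT, hN] at h
    rwa [sup_comm]
  have hrestr : ∀ a b : G →* ℂˣ, T ≤ a.ker → T ≤ b.ker → (∀ m, a (f m) = b (f m)) → a = b := by
    intro a b ha hb hab
    have hKa : K ≤ (a * b⁻¹).ker := normalClosure_le_normal fun t ht => by
      rw [SetLike.mem_coe, MonoidHom.mem_ker, MonoidHom.mul_apply, MonoidHom.inv_apply,
        MonoidHom.mem_ker.1 (ha ht), MonoidHom.mem_ker.1 (hb ht), inv_one, mul_one]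
    have htop : (a * b⁻¹).ker = ⊤ := by
      rw [eq_top_iff, ← hKH, sup_le_iff]
      refine ⟨hKa, ?_⟩
      rintro _ ⟨m, rfl⟩
      rw [MonoidHom.mem_ker, MonoidHom.mul_apply, MonoidHom.inv_apply, hab, mul_inv_cancel]
    ext g
    have := MonoidHom.mem_ker.1 (htop ▸ mem_top g : g ∈ (a * b⁻¹).ker)
    rw [MonoidHom.mul_apply, MonoidHom.inv_apply, mul_inv_eq_one] at this
    rw [this]
  have hker : ∀ a : G →* ℂˣ, ∀ m, tHom m = 1 → T ≤ a.ker → a (f m) = 1 := fun a m hm ha =>
    MonoidHom.mem_ker.1 (ha (mem_tImg.2 ⟨m, hm, rfl⟩))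
  have hval : ∀ a : G →* ℂˣ, T ≤ a.ker → ∀ b : G →* ℂˣ, T ≤ b.ker →
      (∀ k, a (f (uu k)) = b (f (uu k))) → a = b := by
    intro a ha b hb hk
    refine hrestr a b ha hb fun m => ?_
    rcases coset_cases m with h | ⟨k, h⟩
    · rw [hker a m h ha, hker b m h hb]
    · have e1 := hker a _ h ha
      have e2 := hker b _ h hb
      rw [map_mul, map_mul, hk k] at e1
      rw [map_mul, map_mul] at e2
      exact mul_right_cancel (e1.trans e2.symm)
  have hsq : ∀ (a : G →* ℂˣ) k, a (f (uu k)) = 1 ∨ a (f (uu k)) = -1 := fun a k => by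
    have h : a (f (uu k)) * a (f (uu k)) = 1 := by rw [← map_mul, ← map_mul, (uu_prod k).1, map_one, map_one]
    rcases mul_self_eq_one_iff.1 (congrArg Units.val h) with e | e
    · exact Or.inl (Units.ext e)
    · exact Or.inr (Units.ext e)
  set Lk : Subgroup G := ⨅ k, (l k).ker with hLk
  haveI : Lk.Normal := normal_iInf_normal fun k => MonoidHom.normal_ker _
  have hTL : T ≤ Lk := le_iInf hkillT
  have hdet : ∀ k : Fin 3, ∀ a b : Fin 3, a ≠ b → ¬ (l a (f (uu k)) = 1 ∧ l b (f (uu k)) = 1) := by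
    rintro k a b hab ⟨ha, hb⟩
    have hne : ∀ a, l a (f (uu k)) = 1 → l a (f (uu (k + 1))) = -1 ∧ l a (f (uu (k + 2))) = -1 := by
      intro a ha
      have hp : l a (f (uu (k + 1))) * l a (f (uu (k + 2))) = 1 := by
        rw [← map_mul, ← map_mul, (uu_prod k).2, ha]
      rcases hsq (l a) (k + 1) with e | e
      · exfalso
        rw [e, one_mul] at hp
        refine hl1 a (hval _ (hkillT a) 1 (by simp) fun n => ?_)
        rcases (idx k).2.2.2.2 n with rfl | rfl | rfl <;> simp [ha, e, hp]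
      · rw [e] at hp
        exact ⟨e, by rw [← neg_eq_iff_eq_neg]; simpa using hp⟩
    refine hab (hl (hval _ (hkillT a) _ (hkillT b) fun n => ?_))
    rcases (idx k).2.2.2.2 n with rfl | rfl | rfl
    · rw [ha, hb]
    · rw [(hne a ha).1, (hne b hb).1]
    · rw [(hne a ha).2, (hne b hb).2]
  have hLH : ∀ g ∈ Lk, g ∈ f.range → g ∈ T := by
    rintro g hg ⟨m, rfl⟩
    rcases coset_cases m with h | ⟨k, h⟩
    · exact mem_tImg.2 ⟨m, h, rfl⟩
    · exfalso
      have hall : ∀ a, l a (f (uu k)) = 1 := fun a => by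
        have e := hker (l a) _ h (hkillT a)
        rwa [map_mul, map_mul, MonoidHom.mem_ker.1 (mem_iInf.1 hg a), one_mul] at e
      exact hdet k 0 1 (by decide) ⟨hall 0, hall 1⟩
  -- a normal complement in `Lk`
  set PL := P.subtype (hPT ▸ hTL : (P : Subgroup G) ≤ Lk) with hPL
  have hPLmem : ∀ a : Lk, a ∈ (PL : Subgroup Lk) ↔ (a : G) ∈ T := fun a => by
    rw [hPL, Sylow.coe_subtype, mem_subgroupOf, hPT]
  have hNC : normalizer ((PL : Subgroup Lk) : Set Lk) ≤ centralizer ((PL : Subgroup Lk) : Set Lk) := by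
    intro n hn
    have hnN : (n : G) ∈ normalizer (T : Set G) := by
      rw [mem_normalizer_iff_map_conj_eq]
      refine Subgroup.eq_of_le_of_card_ge (fun y hy => ?_) (by
        rw [card_map_of_injective (MulAut.conj (n : G)).injective])
      obtain ⟨a, ha, rfl⟩ := mem_map.1 hy
      exact (hPLmem _).1 ((mem_normalizer_iff.1 hn ⟨a, hTL ha⟩).1 ((hPLmem _).2 ha))
    have hnT := hLH n n.2 (hN ▸ hnN)
    rw [mem_centralizer_iff]
    intro a ha
    obtain ⟨s, hs, hse⟩ := mem_tImg.1 ((hPLmem a).1 ha)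
    obtain ⟨r, hr, hre⟩ := mem_tImg.1 hnT
    refine Subtype.ext ?_
    show (a : G) * n = n * a
    rw [← hse, ← hre, ← map_mul, ← map_mul, tHom_comm s hs r hr]
  set Nc := (MonoidHom.transferSylow PL hNC).ker with hNc
  have hNc3 : ¬ 3 ∣ Nat.card Nc := MonoidHom.not_dvd_card_ker_transferSylow PL hNC
  have hcompl := MonoidHom.ker_transferSylow_isComplement' PL hNC
  set Q := Nc.map Lk.subtype with hQ
  have hTQ : T ≤ normalizer (Q : Set G) := by
    refine (hTL.trans ?_)
    refine le_trans ?_ (le_normalizer_map Lk.subtype)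
    rw [normalizer_eq_top, ← MonoidHom.range_eq_map, range_subtype]
  have hQ3 : ¬ 3 ∣ Nat.card Q := by rwa [hQ, card_map_of_injective Lk.subtype_injective]
  have hQbot : Q = ⊥ := by
    by_contra hne
    haveI : IsMulCommutative T := ⟨⟨fun a b => by
      obtain ⟨s, hs, hse⟩ := mem_tImg.1 a.2
      obtain ⟨r, hr, hre⟩ := mem_tImg.1 b.2
      refine Subtype.ext ?_
      show (a : G) * b = b * a
      rw [← hse, ← hre, ← map_mul, ← map_mul, tHom_comm s hs r hr]⟩⟩
    have hfpf : ∀ a ∈ T, a ≠ 1 → Q ⊓ centralizer ({a} : Set G) = ⊥ := by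
      intro a ha ha1
      rw [eq_bot_iff_forall]
      intro q hq
      have hqH := hC a ha ha1 hq.2
      have hqT := hLH q (map_subtype_le _ hq.1) hqH
      rw [← orderOf_eq_one_iff]
      refine Nat.eq_one_of_dvd_coprimes
        (((Nat.prime_three.coprime_iff_not_dvd.2 hQ3).pow_left 3).symm) (Subgroup.orderOf_dvd_natCard Q hq.1) ?_
      rw [show 3 ^ 3 = Nat.card T by rw [hcT]; norm_num]
      exact Subgroup.orderOf_dvd_natCard T hqT
    haveI := CfsgLib.Core.FPF.isCyclic_of_isMulCommutative hTQ hfpf hne (le_refl T)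
    obtain ⟨s, t, hs, ht, hst⟩ := exists_two_cube
    have hcube : ∀ q : T, q ^ 3 = 1 := fun q => by
      obtain ⟨r, hr, hre⟩ := mem_tImg.1 q.2
      refine Subtype.ext ?_
      rw [SubmonoidClass.coe_pow, ← hre, ← map_pow, pow_succ, pow_two, (tHom_cube r).1 hr, map_one]
      rfl
    obtain ⟨g, hg⟩ := IsCyclic.exists_ofOrder_eq_natCard (α := T)
    have := orderOf_dvd_of_pow_eq_one (hcube g)
    rw [hg, hcT] at this
    norm_num at this
  have hLT : Lk ≤ T := by
    intro g hg
    have hbot : Nc = ⊥ := (map_eq_bot_iff_of_injective _ Lk.subtype_injective).1 hQbot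
    rw [← hNc, hbot, isComplement'_bot_left] at hcompl
    exact (hPLmem ⟨g, hg⟩).1 (hcompl ▸ mem_top _)
  rw [← hN, normalizer_eq_top_iff]
  rw [show T = Lk from le_antisymm hTL hLT]
  infer_instance

end CfsgLib.Recog.ThreeCubeFour
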