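import Mathlib
import Cfsg.Agent.Lib.Char.Exceptional.Virtual
import Cfsg.Agent.Lib.Char.Complete
import Cfsg.Agent.Lib.Char.Perm

/-!
# The group `3³ : 2²` and nine generalized characters supported on its `3`-singular elements
-/

set_option autoImplicit false
set_option linter.all false
set_option maxRecDepth 100000

open CfsgLib.Char CfsgLib.Char.Exceptional DihedralGroup

namespace CfsgLib.Recog.ThreeCubeFour

/-- Three copies of `S₃`. -/
abbrev Amb := DihedralGroup 3 × DihedralGroup 3 × DihedralGroup 3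

/-- The sign of an element of `S₃`. -/
def par : DihedralGroup 3 →* ℤˣ where
  toFun g := match g with
    | .r _ => 1
    | .sr _ => -1
  map_one' := rfl
  map_mul' := by decide

/-- The two-dimensional character of `S₃`. -/
def st : DihedralGroup 3 → ℤ
  | .r i => if i = 0 then 2 else -1
  | .sr _ => 0

/-- The projections. -/
def proj : Fin 3 → (Amb →* DihedralGroup 3)
  | 0 => MonoidHom.fst _ _
  | 1 => (MonoidHom.fst _ _).comp (MonoidHom.snd _ _)
  | 2 => (MonoidHom.snd _ _).comp (MonoidHom.snd _ _)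

/-- The product of the three signs. -/
def totalSign : Amb →* ℤˣ := (par.comp (proj 0)) * (par.comp (proj 1)) * (par.comp (proj 2))

/-- The group `3³ : 2²`. -/
abbrev M := totalSign.ker

/-- The sign in coordinate `k`. -/
def sgn (k : Fin 3) : M →* ℤˣ := (par.comp (proj k)).comp totalSign.ker.subtype

/-- The sign in coordinate `k` as an integer function. -/
def pk (k : Fin 3) (m : M) : ℤ := (sgn k m : ℤ)

/-- The character of degree two in coordinate `k`. -/
def sk (k : Fin 3) (m : M) : ℤ := st (proj k m.1)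

/-- The nine functions. -/
def famF : Fin 3 → Fin 3 → M → ℤ
  | 0, k, m => 1 + pk k m - sk k m
  | 1, k, m => pk (k + 1) m + pk (k + 2) m - sk k m * pk (k + 1) m
  | 2, k, m => sk k m + sk k m * pk (k + 1) m - sk 0 m * sk 1 m

/-- Their inner products. -/
def gram : Fin 3 → Fin 3 → Fin 3 → Fin 3 → ℤ
  | 0, k, 0, l => if k = l then 3 else 1
  | 1, k, 1, l => if k = l then 3 else 1
  | 2, k, 2, l => if k = l then 3 else 1
  | 0, k, 1, l => if k = l then 0 else 1
  | 1, k, 0, l => if k = l then 0 else 1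
  | 0, k, 2, l => if k = l then -1 else 0
  | 2, k, 0, l => if k = l then -1 else 0
  | 1, k, 2, l => if k = l then -1 else 0
  | 2, k, 1, l => if k = l then -1 else 0

/-- The inner products with the trivial character. -/
def triv : Fin 3 → ℤ
  | 0 => 1
  | _ => 0

theorem famF_supp : ∀ a k, ∀ m : M, m * m = 1 → famF a k m = 0 := by decide +kernel

theorem famF_gram : ∀ a k b l, ∑ m : M, famF a k m * famF b l m = 108 * gram a k b l := by
  decide +kernel

theorem famF_triv : ∀ a k, ∑ m : M, famF a k m = 108 * triv a := by decide +kernel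

theorem card_M : Nat.card M = 108 := by
  rw [Nat.card_eq_fintype_card]
  decide +kernel

/-- The involutions centralizing coordinate `k`. -/
def invK (k : Fin 3) : Finset M :=
  Finset.univ.filter fun m => m * m = 1 ∧ m ≠ 1 ∧ sgn k m = 1

/-- A representative involution. -/
def uu : Fin 3 → M
  | 0 => ⟨(1, sr 0, sr 0), by decide⟩
  | 1 => ⟨(sr 0, 1, sr 0), by decide⟩
  | 2 => ⟨(sr 0, sr 0, 1), by decide⟩

theorem uu_mem : ∀ k, uu k ∈ invK k := by decide +kernel

theorem invK_conj : ∀ k, ∀ x ∈ invK k, ∃ c : M, c * uu k * c⁻¹ = x := by decide +kernel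

theorem inv_cases : ∀ x : M, x * x = 1 → x ≠ 1 → ∃ k, x ∈ invK k := by decide +kernel

theorem invK_disj : ∀ k l, ∀ x ∈ invK k, x ∈ invK l → k = l := by decide +kernel

/-- The pair sums. -/
def pairT : Fin 3 → Fin 3 → Fin 3 → Fin 3 → ℤ
  | 0, k, l, n => if l = k ∨ n = k then 0 else 162
  | 1, k, l, n => if l = k ∨ n = k then 0 else if l = n then 162 else -162
  | 2, k, l, n => if l = k ∧ n = k then 324 else 0

theorem famF_pairs : ∀ a k l n, ∑ i ∈ invK l, ∑ j ∈ invK n, famF a k (i * j) = pairT a k l n := by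
  decide +kernel

/-- The normal subgroup `3³`. -/
def tHom : M →* ℤˣ × ℤˣ := (sgn 0).prod (sgn 1)

theorem tHom_cube : ∀ m : M, tHom m = 1 ↔ m * m * m = 1 := by decide +kernel

theorem tHom_comm : ∀ s : M, tHom s = 1 → ∀ t : M, tHom t = 1 → s * t = t * s := by decide +kernel

theorem sq_mem : ∀ m : M, m * m ≠ 1 → tHom (m * m) = 1 := by decide +kernel

theorem tHom_comm_eq : ∀ t : M, tHom t = 1 → ∃ g h : M, g * h * g⁻¹ * h⁻¹ = t := by decide +kernel

theorem coset_cases : ∀ m : M, tHom m = 1 ∨ ∃ k, tHom (m * uu k) = 1 := by decide +kernel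

theorem uu_prod : ∀ k, uu k * uu k = 1 ∧ uu (k + 1) * uu (k + 2) = uu k := by decide +kernel

theorem exists_two_cube : ∃ s t : M, tHom s = 1 ∧ tHom t = 1 ∧ ∀ n : Fin 3, s ^ (n : ℕ) ≠ t := by
  decide +kernel

/-- `S₃` acting on three points. -/
def act : DihedralGroup 3 → ZMod 3 → ZMod 3
  | .r i, x => x - i
  | .sr i, x => i - x

theorem act_one : ∀ x, act 1 x = x := by decide

theorem act_mul : ∀ a b x, act (a * b) x = act a (act b x) := by decide

theorem isGen_pk (k : Fin 3) : Cfsg.IsGeneralizedCharacter M (fun m => (pk k m : ℂ)) :=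
  IsGen.of_irr (isIrrCharacter_linear ((Units.map (Int.castRingHom ℂ).toMonoidHom).comp (sgn k)))

theorem st_eq : ∀ g : DihedralGroup 3, st g = ((Finset.univ.filter fun x => act g x = x).card : ℤ) - 1 := by
  decide

theorem isGen_sk (k : Fin 3) : Cfsg.IsGeneralizedCharacter M (fun m => (sk k m : ℂ)) := by
  letI : MulAction (DihedralGroup 3) (ZMod 3) :=
    { smul := act, mul_smul := act_mul, one_smul := act_one }
  have h := IsGen.comp ((proj k).comp totalSign.ker.subtype)
    (IsGen.sub (IsGen.of_char (isCharacter_permChar (G := DihedralGroup 3) (X := ZMod 3))) isGen_one)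
  convert h using 1
  funext m
  show ((st (proj k m.1) : ℤ) : ℂ) = permChar (DihedralGroup 3) (ZMod 3) (proj k m.1) - 1
  rw [st_eq, permChar]
  push_cast
  congr 1
  rw [Nat.cast_inj, ← Fintype.card_subtype, ← Nat.card_eq_fintype_card]
  exact Nat.card_congr (Equiv.refl _)

theorem isGen_famF : ∀ a k, Cfsg.IsGeneralizedCharacter M (fun m => (famF a k m : ℂ)) := by
  intro a k
  fin_cases a
  · convert IsGen.sub (IsGen.add isGen_one (isGen_pk k)) (isGen_sk k) using 1
    funext m
    show ((1 + pk k m - sk k m : ℤ) : ℂ) = _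
    simp
  · convert IsGen.sub (IsGen.add (isGen_pk (k + 1)) (isGen_pk (k + 2)))
      (IsGen.mul (isGen_sk k) (isGen_pk (k + 1))) using 1
    funext m
    show ((pk (k + 1) m + pk (k + 2) m - sk k m * pk (k + 1) m : ℤ) : ℂ) = _
    simp
  · convert IsGen.sub (IsGen.add (isGen_sk k) (IsGen.mul (isGen_sk k) (isGen_pk (k + 1))))
      (IsGen.mul (isGen_sk 0) (isGen_sk 1)) using 1
    funext m
    show ((sk k m + sk k m * pk (k + 1) m - sk 0 m * sk 1 m : ℤ) : ℂ) = _
    simp

/-- The action on nine points. -/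
def act9 (g : Amb) (x : Fin 3 × ZMod 3) : Fin 3 × ZMod 3 := (x.1, act (proj x.1 g) x.2)

/-- The embedding into the symmetric group of degree nine. -/
def toPerm9 : M →* Equiv.Perm (Fin 9) :=
  letI : MulAction Amb (Fin 3 × ZMod 3) :=
    { smul := act9
      mul_smul := fun a b x => by
        show act9 (a * b) x = act9 a (act9 b x)
        simp only [act9, map_mul, act_mul]
      one_smul := fun x => by
        show act9 1 x = x
        simp only [act9, map_one, act_one] }
  ((finProdFinEquiv (m := 3) (n := 3)).permCongrHom.toMonoidHom.comp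
    (MulAction.toPermHom Amb (Fin 3 × ZMod 3))).comp totalSign.ker.subtype

open Equiv in
/-- The five given generators. -/
def genPerm : Finset (Perm (Fin 9)) :=
  {swap (0 : Fin 9) 1 * swap 1 2, swap (3 : Fin 9) 4 * swap 4 5, swap (6 : Fin 9) 7 * swap 7 8,
    swap (0 : Fin 9) 1 * swap 3 4, swap (0 : Fin 9) 1 * swap 6 7}

/-- Their preimages. -/
def genM : Fin 5 → M
  | 0 => ⟨(r 2, 1, 1), by decide⟩
  | 1 => ⟨(1, r 2, 1), by decide⟩
  | 2 => ⟨(1, 1, r 2), by decide⟩
  | 3 => ⟨(sr 1, sr 1, 1), by decide⟩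
  | 4 => ⟨(sr 1, 1, sr 1), by decide⟩

theorem toPerm9_injective : Function.Injective toPerm9 := by
  rw [← MonoidHom.ker_eq_bot_iff, Subgroup.eq_bot_iff_forall]
  intro m hm
  have h : ∀ m : M, toPerm9 m = 1 → m = 1 := by decide +kernel
  exact h m hm

theorem gen_fwd : ∀ i, toPerm9 (genM i) ∈ genPerm := by decide +kernel

theorem gen_sub : genPerm ⊆ Finset.univ.image fun i => toPerm9 (genM i) := by decide +kernel

theorem gen_bwd : ∀ p ∈ genPerm, ∃ i, toPerm9 (genM i) = p := fun p hp => by
  simpa using gen_sub hp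

theorem gen_all : ∀ m : M, ∃ a b c : Fin 3, ∃ d e : Fin 2,
    genM 0 ^ (a : ℕ) * genM 1 ^ (b : ℕ) * genM 2 ^ (c : ℕ) * genM 3 ^ (d : ℕ) * genM 4 ^ (e : ℕ) = m := by
  decide +kernel

theorem range_toPerm9 : toPerm9.range = Subgroup.closure (genPerm : Set (Equiv.Perm (Fin 9))) := by
  refine le_antisymm ?_ ((Subgroup.closure_le _).2 fun p hp => ?_)
  · rintro _ ⟨m, rfl⟩
    obtain ⟨a, b, c, d, e, rfl⟩ := gen_all m
    simp only [map_mul, map_pow]
    have hg : ∀ i, toPerm9 (genM i) ∈ Subgroup.closure (genPerm : Set (Equiv.Perm (Fin 9))) :=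
      fun i => Subgroup.subset_closure (gen_fwd i)
    exact mul_mem (mul_mem (mul_mem (mul_mem (pow_mem (hg 0) _) (pow_mem (hg 1) _)) (pow_mem (hg 2) _))
      (pow_mem (hg 3) _)) (pow_mem (hg 4) _)
  · obtain ⟨i, hi⟩ := gen_bwd p hp
    exact ⟨genM i, hi⟩

end CfsgLib.Recog.ThreeCubeFour
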