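import Mathlib

/-!
# Signed supports of nine generalized characters of norm three

`T k`, `P k`, `E k` (`k = 0, 1, 2`) are integral coefficient vectors with prescribed inner products,
vanishing on the degree vector. They are forced to share constituents in one pattern.
-/

set_option autoImplicit false
set_option linter.all false

open Finset

namespace CfsgLib.Recog.ThreeCubeFour

variable {ι : Type*} [Fintype ι] [DecidableEq ι]

/-- A vector of norm three with a coefficient one at `o`. -/
theorem norm_three_through (v : ι → ℤ) (o : ι) (h : ∑ i, v i * v i = 3) (ho : v o = 1) :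
    ∃ p q, o ≠ p ∧ o ≠ q ∧ p ≠ q ∧ (v p = 1 ∨ v p = -1) ∧ (v q = 1 ∨ v q = -1) ∧
      ∀ i, i ≠ o → i ≠ p → i ≠ q → v i = 0 := by
  have hE : ∑ i ∈ univ.erase o, v i * v i = 2 := by
    have h' := Finset.add_sum_erase univ (fun i => v i * v i) (mem_univ o)
    simp only [ho] at h'
    linarith
  have hval : ∀ i, i ≠ o → v i = 0 ∨ v i = 1 ∨ v i = -1 := fun i hi => by
    have h1 := Finset.single_le_sum (fun j _ => mul_self_nonneg (v j))
      (mem_erase.2 ⟨hi, mem_univ i⟩ : i ∈ univ.erase o)
    rw [hE] at h1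
    have h2 : v i ≤ 1 := by nlinarith
    have h3 : -1 ≤ v i := by nlinarith
    omega
  set S := (univ.erase o).filter fun i => v i ≠ 0 with hS
  have hS2 : (S.card : ℤ) = 2 := by
    rw [← hE, hS, card_filter]
    push_cast
    refine sum_congr rfl fun i hi => ?_
    rcases hval i (mem_erase.1 hi).1 with e | e | e <;> simp [e]
  obtain ⟨p, q, hpq, he⟩ := card_eq_two.1 (by exact_mod_cast hS2 : S.card = 2)
  have hp : p ∈ S := he ▸ mem_insert_self _ _
  have hq : q ∈ S := he ▸ mem_insert_of_mem (mem_singleton_self _)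
  rw [hS, mem_filter, mem_erase] at hp hq
  refine ⟨p, q, Ne.symm hp.1.1, Ne.symm hq.1.1, hpq, (hval p hp.1.1).resolve_left hp.2,
    (hval q hq.1.1).resolve_left hq.2, fun i h1 h2 h3 => ?_⟩
  by_contra hne
  have : i ∈ S := mem_filter.2 ⟨mem_erase.2 ⟨h1, mem_univ i⟩, hne⟩
  rw [he, mem_insert, mem_singleton] at this
  exact this.elim h2 h3

/-- A sum against a vector supported on three elements. -/
theorem sum_of_support (v : ι → ℤ) {a b c : ι} (hab : a ≠ b) (hac : a ≠ c) (hbc : b ≠ c)
    (h : ∀ i, i ≠ a → i ≠ b → i ≠ c → v i = 0) (f : ι → ℤ) :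
    ∑ i, v i * f i = v a * f a + v b * f b + v c * f c := by
  rw [← sum_subset (subset_univ ({a, b, c} : Finset ι)) fun i _ hi => ?_]
  · rw [sum_insert (by simp [hab, hac]), sum_pair hbc, add_assoc]
  · simp only [mem_insert, mem_singleton, not_or] at hi
    rw [h i hi.1 hi.2.1 hi.2.2, zero_mul]

/-- Coefficients of a vector of norm at most three at four distinct places. -/
theorem four_support (v : ι → ℤ) (h : ∑ i, v i * v i = 3) {a b c d : ι} (hab : a ≠ b) (hac : a ≠ c)
    (had : a ≠ d) (hbc : b ≠ c) (hbd : b ≠ d) (hcd : c ≠ d) :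
    v a = 0 ∨ v b = 0 ∨ v c = 0 ∨ v d = 0 := by
  by_contra hne
  push Not at hne
  have h4 := sum_le_univ_sum_of_nonneg (s := ({a, b, c, d} : Finset ι)) fun i => mul_self_nonneg (v i)
  rw [h, sum_insert (by simp [hab, hac, had]), sum_insert (by simp [hbc, hbd]), sum_pair hcd] at h4
  have := mul_self_pos.2 hne.1
  have := mul_self_pos.2 hne.2.1
  have := mul_self_pos.2 hne.2.2.1
  have := mul_self_pos.2 hne.2.2.2
  omega

theorem val_cases (v : ι → ℤ) (h : ∑ i, v i * v i = 3) (i : ι) : v i = 0 ∨ v i = 1 ∨ v i = -1 := by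
  have h1 := single_le_sum (fun j _ => mul_self_nonneg (v j)) (mem_univ i) (f := fun j => v j * v j)
  rw [h] at h1
  have h2 : v i < 2 := by nlinarith
  have h3 : -2 < v i := by nlinarith
  omega

end CfsgLib.Recog.ThreeCubeFour
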